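import Cfsg.Agent.Lib.Invol.SECriterion.Consumers.StronglyClosed
import Cfsg.Agent.S1250
import Cfsg.Agent.S1251
import Cfsg.Agent.Lib.Coprime.Core
import Cfsg.Prelude.Def_CaseTheorems

/-!
# The normal closure of a strongly closed two-subgroup with centralizers in a proper subgroup

`H` holds the centralizer of every non-trivial element of the strongly closed `S` and the normalizer of
the Sylow subgroup.  Then non-trivial elements of `S` fix one coset of `H` only, and it is enough to treat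
the case that the core of `H` has trivial odd core, when `S` centralizes that core.
-/

set_option autoImplicit false

namespace CfsgLib.SECrit.Closure

open Subgroup CfsgLib.Invol

universe u

variable {G : Type u} [Group G] [Finite G]

/-- A strongly closed `S` with its centralizers in a proper subgroup `H`. -/
structure SCSet (T : Sylow 2 G) (S H : Subgroup G) : Prop where
  ne_bot : S ≠ ⊥
  ne_top : H ≠ ⊤
  closed : Cfsg.IsStronglyClosed S (T : Subgroup G)
  cent : ∀ s ∈ S, s ≠ 1 → centralizer ({s} : Set G) ≤ H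
  norm : normalizer ((T : Subgroup G) : Set G) ≤ H

variable {T : Sylow 2 G} {S H : Subgroup G}

theorem SCSet.sylow_le (h : SCSet T S H) : (T : Subgroup G) ≤ H := le_normalizer.trans h.norm

theorem SCSet.le (h : SCSet T S H) : S ≤ H := h.closed.1.trans h.sylow_le

theorem SCSet.exists_crit (h : SCSet T S H) : ∃ z ∈ S, Crit H z :=
  crit_of_strongly_closed T S h.closed h.ne_bot (fun t ht hto => h.cent t ht (invol_ne_one hto)) h.norm

/-- A two-subgroup of `H` goes into `T` inside `H`. -/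
theorem SCSet.exists_conj (h : SCSet T S H) {P : Subgroup G} (hP : IsPGroup 2 P) (hPH : P ≤ H) :
    ∃ m ∈ H, ∀ x ∈ P, m * x * m⁻¹ ∈ (T : Subgroup G) := by
  haveI : Fact (Nat.Prime 2) := ⟨Nat.prime_two⟩
  obtain ⟨m, hm⟩ := exists_conj_le_sylow (hP.comap_of_injective H.subtype H.subtype_injective) (T.subtype h.sylow_le)
  exact ⟨m, m.2, fun x hx => hm ⟨x, hPH hx⟩ hx⟩

omit [Finite G] in
theorem isPGroup_zpowers_of {g : G} {k : ℕ} (hk : g ^ 2 ^ k = 1) : IsPGroup 2 (zpowers g) := by
  rintro ⟨_, i, rfl⟩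
  exact ⟨k, Subtype.ext (show (g ^ i) ^ 2 ^ k = 1 by
    rw [← zpow_natCast, zpow_comm, zpow_natCast, hk, one_zpow])⟩

omit [Finite G] in
/-- A non-trivial two-element has an involution among its powers. -/
theorem exists_pow_invol {g : G} {k : ℕ} (hk : g ^ 2 ^ k = 1) (h1 : g ≠ 1) : ∃ n : ℕ, orderOf (g ^ n) = 2 := by
  induction k with
  | zero => exact absurd (by simpa using hk) h1
  | succ k ih =>
    by_cases hh : g ^ 2 ^ k = 1
    · exact ih hh
    · exact ⟨2 ^ k, invol_iff.2 ⟨by rw [← pow_add, ← two_mul, mul_comm, ← pow_succ]; exact hk, hh⟩⟩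

/-- **A non-trivial element of `S` fixes one coset of `H` only.** -/
theorem SCSet.fuse (h : SCSet T S H) {s : G} (hs : s ∈ S) (h1 : s ≠ 1) {g : G} (hg : g * s * g⁻¹ ∈ H) :
    g ∈ H := by
  obtain ⟨k, hk⟩ := T.2 ⟨s, h.closed.1 hs⟩
  obtain ⟨n, hn⟩ := exists_pow_invol (congrArg Subtype.val hk : s ^ 2 ^ k = 1) h1
  obtain ⟨z, -, hc⟩ := h.exists_crit
  set e := g * s ^ n * g⁻¹ with he
  have heH : e ∈ H := by rw [he, ← conj_pow]; exact pow_mem hg n
  have heo : orderOf e = 2 := invol_conj hn g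
  have heP : IsPGroup 2 (zpowers e) := IsPGroup.of_card (n := 1) (by rw [Nat.card_zpowers, heo, pow_one])
  obtain ⟨m, hm, hmT⟩ := h.exists_conj heP (zpowers_le.2 heH)
  have hmS : m * e * m⁻¹ ∈ S := by
    have h2 := hmT e (mem_zpowers e)
    rw [show m * e * m⁻¹ = m * g * s ^ n * (m * g)⁻¹ by rw [he]; group] at h2 ⊢
    exact h.closed.2 _ (pow_mem hs n) _ h2
  have hCe : ∀ c : G, Commute c e → c ∈ H := fun c hce => by
    have h2 : m * c * m⁻¹ ∈ H := h.cent _ hmS (invol_ne_one (invol_conj heo m))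
      (mem_centralizer_singleton_iff.2 (hce.conj m).eq)
    simpa [mul_assoc] using mul_mem (mul_mem (inv_mem hm) h2) hm
  by_contra hgH
  set a : G ⧸ H := ((1 : G) : G ⧸ H) with ha
  have hea : ∀ x ∈ zpowers e, x • a = a := fun x hx => (smul_coe_eq_iff x 1).2 (by
    simpa using zpowers_le.2 heH hx)
  have hsnH : s ^ n ∈ H := pow_mem (h.le hs) n
  have heb : ∀ x ∈ zpowers e, x • (g : G ⧸ H) = g := fun x hx => (smul_coe_eq_iff x g).2 (by
    obtain ⟨i, rfl⟩ := mem_zpowers_iff.1 hx
    rw [he, conj_zpow, show g⁻¹ * (g * (s ^ n) ^ i * g⁻¹) * g = (s ^ n) ^ i by group]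
    exact zpow_mem hsnH i)
  have hab : a ≠ (g : G ⧸ H) := fun e1 => hgH (by
    have := QuotientGroup.eq.1 e1
    simpa using this)
  obtain ⟨d, -, hda, hde⟩ := hc.exists_commuting_swap heP hab hea heb
  have hdH : d ∈ H := hCe d (hde e (mem_zpowers e)).symm
  refine hab ?_
  rw [← hda, ha, (smul_coe_eq_iff d 1).2 (by simpa using hdH)]

/-- `S` meets the core trivially. -/
theorem SCSet.inf_core (h : SCSet T S H) : S ⊓ H.normalCore = ⊥ := by
  rw [eq_bot_iff]
  rintro s ⟨hs, hsC⟩
  by_contra h1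
  exact h.ne_top (eq_top_iff.2 fun g _ => h.fuse hs h1 (H.normalCore_le ((normalCore_normal H).conj_mem s hsC g)))

/-- Conjugates of elements of `S` in `T` stay in `S`. -/
theorem SCSet.closed_conj (h : SCSet T S H) {s g : G} (hs : s ∈ S) (hg : g * s * g⁻¹ ∈ (T : Subgroup G)) :
    g * s * g⁻¹ ∈ S :=
  h.closed.2 s hs g hg

/-- **With trivial odd core, the core is centralized by the normal closure.** -/
theorem SCSet.commute_core (h : SCSet T S H) (hO : Cfsg.oddCore ↥H.normalCore = ⊥) :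
    ∀ x ∈ normalClosure (S : Set G), ∀ c ∈ H.normalCore, Commute x c := by
  haveI := normalCore_normal H
  have h1 := Cfsg.Agent.S1251.result T S h.closed H.normalCore
    (fun x _ => by rw [normalizer_eq_top]; exact mem_top x) hO h.inf_core
  have h2 : normalClosure (S : Set G) ≤ centralizer (H.normalCore : Set G) := normalClosure_le_normal h1
  exact fun x hx c hc => (mem_centralizer_iff.1 (h2 hx) c hc).symm

/-- The core met with the normal closure is a two-group. -/
theorem SCSet.isPGroup_core_inf (h : SCSet T S H) (hO : Cfsg.oddCore ↥H.normalCore = ⊥) :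
    IsPGroup 2 (H.normalCore ⊓ normalClosure (S : Set G) : Subgroup G) := by
  haveI : Fact (Nat.Prime 2) := ⟨Nat.prime_two⟩
  haveI := normalCore_normal H
  haveI : (normalClosure (S : Set G)).Normal := normalClosure_normal
  set C := H.normalCore
  set Z := C ⊓ normalClosure (S : Set G)
  have hc : ∀ a ∈ Z, ∀ b ∈ Z, Commute a b := fun a ha b hb => h.commute_core hO a ha.2 b hb.1
  let O : Subgroup C :=
    { carrier := {c | (c : G) ∈ Z ∧ Odd (orderOf c)}
      one_mem' := ⟨one_mem Z, by simp⟩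
      mul_mem' := fun {a b} ha hb => ⟨mul_mem ha.1 hb.1, by
        have hab : Commute a b := Subtype.ext (hc _ ha.1 _ hb.1).eq
        exact (ha.2.mul hb.2).of_dvd_nat hab.orderOf_mul_dvd_mul_orderOf⟩
      inv_mem' := fun {a} ha => ⟨inv_mem ha.1, by rw [orderOf_inv]; exact ha.2⟩ }
  haveI : O.Normal := ⟨fun a ha g => ⟨(inferInstance : Z.Normal).conj_mem _ ha.1 (g : G), by
    rw [show g * a * g⁻¹ = MulAut.conj g a from rfl, MulEquiv.orderOf_eq]; exact ha.2⟩⟩
  have hOodd : Odd (Nat.card O) := by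
    rw [← Nat.not_even_iff_odd, even_iff_two_dvd]
    intro h2
    obtain ⟨y, hy⟩ := exists_prime_orderOf_dvd_card' (G := O) 2 h2
    have h3 := y.2.2
    rw [Subgroup.orderOf_coe, hy] at h3
    exact Nat.not_odd_iff_even.2 even_two h3
  have hObot : O = ⊥ := le_bot_iff.1 (hO ▸ CfsgLib.Coprime.le_pPrimeCore (Nat.coprime_two_right.2 hOodd))
  intro w
  obtain ⟨a, b, hb, hab⟩ := Nat.exists_eq_two_pow_mul_odd (orderOf_pos w).ne'
  refine ⟨a, Subtype.ext ?_⟩
  have h4 : (⟨(w : G) ^ 2 ^ a, pow_mem w.2.1 _⟩ : C) ∈ O := ⟨pow_mem w.2 _, by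
    refine hb.of_dvd_nat (orderOf_dvd_of_pow_eq_one (Subtype.ext ?_))
    show ((w : G) ^ 2 ^ a) ^ b = 1
    rw [← pow_mul, ← hab, Subgroup.orderOf_coe w |>.symm, pow_orderOf_eq_one]⟩
  rw [hObot, mem_bot] at h4
  show (w : G) ^ 2 ^ a = 1
  exact congrArg (fun c : C => (c : G)) h4

end CfsgLib.SECrit.Closure
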