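import Cfsg.Agent.Lib.Invol.Basic
import Cfsg.Agent.Lib.Invol.Tight.Tools
import Cfsg.Agent.Lib.Coprime.Action
import Cfsg.Agent.Lib.ProdFusion.Direct
import Cfsg.Prelude.Def_TwoFusion
import Mathlib.GroupTheory.Nilpotent
import Mathlib.GroupTheory.Sylow

/-!
# Fusion modulo a strongly closed subgroup

A relation on a Sylow two-subgroup that is kept by the normalizer of the strongly closed `S` and by the
elements acting trivially on `E` modulo `S ∩ E` is kept by all of the fusion.  So the centralizer of a strongly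
closed subgroup with one involution is again strongly closed.
-/

set_option autoImplicit false
set_option linter.style.haveILetI false

namespace CfsgLib.SECrit.Closure

open Subgroup CfsgLib.Invol

universe u

variable {G : Type u} [Group G] [Finite G] {T : Sylow 2 G} {S : Subgroup G}

omit [Finite G] in
theorem conj_mem_map {E : Subgroup G} {g x : G} :
    x ∈ E.map (MulAut.conj g).toMonoidHom ↔ ∃ e ∈ E, g * e * g⁻¹ = x := Iff.rfl

/-- **Fusion modulo a strongly closed subgroup.** -/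
theorem rel_of_fusion (hsc : Cfsg.IsStronglyClosed S (T : Subgroup G)) (R : G → G → Prop)
    (hsymm : ∀ x y, R x y → R y x) (htrans : ∀ x y w, R x y → R y w → R x w)
    (hN : ∀ g ∈ normalizer (S : Set G), ∀ e ∈ (T : Subgroup G), g * e * g⁻¹ ∈ (T : Subgroup G) →
      R e (g * e * g⁻¹))
    (hK : ∀ E : Subgroup G, E ≤ (T : Subgroup G) →
      IsPGroup 2 ↥((T : Subgroup G) ⊓ normalizer (E : Set G)) →
      (¬ 2 ∣ ((T : Subgroup G) ⊓ normalizer (E : Set G)).relIndex (normalizer (E : Set G))) →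
      ∀ k ∈ normalizer (E : Set G), (∀ e ∈ E, k * e * k⁻¹ * e⁻¹ ∈ S) → ∀ e ∈ E, R e (k * e * k⁻¹))
    {g e : G} (he : e ∈ (T : Subgroup G)) (hg : g * e * g⁻¹ ∈ (T : Subgroup G)) : R e (g * e * g⁻¹) := by
  classical
  haveI : Fact (Nat.Prime 2) := ⟨Nat.prime_two⟩
  suffices H : ∀ (n : ℕ) (E : Subgroup G), Nat.card (T : Subgroup G) ≤ n + Nat.card E → E ≤ (T : Subgroup G) →
      ∀ g : G, (∀ x ∈ E, g * x * g⁻¹ ∈ (T : Subgroup G)) → ∀ x ∈ E, R x (g * x * g⁻¹) by
    refine H _ (zpowers e) (Nat.le_add_right _ _) (zpowers_le.2 he) g (fun x hx => ?_) e (mem_zpowers e)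
    obtain ⟨i, rfl⟩ := mem_zpowers_iff.1 hx
    rw [← conj_zpow]
    exact zpow_mem hg i
  intro n
  induction n with
  | zero =>
    intro E hcard hle g hg x hx
    have hET : E = (T : Subgroup G) := eq_of_le_of_card_ge hle (by omega)
    subst hET
    refine hN g (mem_normalizer_iff.2 ?_) x hx (hg x hx)
    have h1 : ∀ s ∈ S, g * s * g⁻¹ ∈ S := fun s hs => hsc.2 s hs g (hg s (hsc.1 hs))
    have h2 : S.map (MulAut.conj g).toMonoidHom = S := by
      refine eq_of_le_of_card_ge ?_ (Nat.card_congr (equivMapOfInjective S _ (MulAut.conj g).injective).toEquiv).le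
      rintro _ ⟨s, hs, rfl⟩
      exact h1 s hs
    exact fun s => ⟨h1 s, fun hs => by
      obtain ⟨s', hs', he'⟩ := conj_mem_map.1 (h2.symm ▸ hs : g * s * g⁻¹ ∈ S.map (MulAut.conj g).toMonoidHom)
      exact (mul_left_cancel (mul_right_cancel he')) ▸ hs'⟩
  | succ n ih =>
    intro E hcard hle g hg x hx
    by_cases hSE : S ≤ E
    · refine hN g (mem_normalizer_iff.2 ?_) x (hle hx) (hg x hx)
      have h1 : ∀ s ∈ S, g * s * g⁻¹ ∈ S := fun s hs => hsc.2 s hs g (hg s (hSE hs))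
      have h2 : S.map (MulAut.conj g).toMonoidHom = S := by
        refine eq_of_le_of_card_ge ?_
          (Nat.card_congr (equivMapOfInjective S _ (MulAut.conj g).injective).toEquiv).le
        rintro _ ⟨s, hs, rfl⟩
        exact h1 s hs
      exact fun s => ⟨h1 s, fun hs => by
        obtain ⟨s', hs', he'⟩ := conj_mem_map.1 (h2.symm ▸ hs : g * s * g⁻¹ ∈ S.map (MulAut.conj g).toMonoidHom)
        exact (mul_left_cancel (mul_right_cancel he')) ▸ hs'⟩
    -- the normalizer in `T` is bigger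
    have hgrow : ∀ E₁ : Subgroup G, E₁ ≤ (T : Subgroup G) → Nat.card E₁ = Nat.card E →
        Nat.card (T : Subgroup G) ≤ n + Nat.card ↥((T : Subgroup G) ⊓ normalizer (E₁ : Set G)) := by
      intro E₁ h1 hc
      have hlt : Nat.card E₁ < Nat.card ↥((T : Subgroup G) ⊓ normalizer (E₁ : Set G)) := by
        by_contra hh
        have heq : E₁ = (T : Subgroup G) ⊓ normalizer (E₁ : Set G) :=
          eq_of_le_of_card_ge (le_inf h1 le_normalizer) (not_lt.1 hh)
        haveI : Group.IsNilpotent ↥(T : Subgroup G) := T.isPGroup'.isNilpotent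
        have hne : E₁.subgroupOf (T : Subgroup G) < ⊤ := lt_top_iff_ne_top.2 fun e => hSE (by
          have : (T : Subgroup G) ≤ E₁ := subgroupOf_eq_top.1 e
          have hcT : Nat.card (T : Subgroup G) ≤ Nat.card E := hc ▸ Nat.card_le_card_of_injective _
            (inclusion_injective this)
          exact hsc.1.trans (eq_of_le_of_card_ge hle hcT).ge)
        obtain ⟨y, hy, hy'⟩ := SetLike.exists_of_lt (Group.normalizerCondition_of_isNilpotent
          (G := ↥(T : Subgroup G)) _ hne)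
        refine hy' (show (y : G) ∈ E₁ from heq.ge ⟨y.2, mem_normalizer_iff.2 fun w => ?_⟩)
        have h2 := mem_normalizer_iff.1 hy
        constructor
        · exact fun hw => (h2 ⟨w, h1 hw⟩).1 hw
        · intro hw
          have hwT : w ∈ (T : Subgroup G) := by
            simpa [mul_assoc] using mul_mem (mul_mem (inv_mem y.2) (h1 hw)) y.2
          exact (h2 ⟨w, hwT⟩).2 hw
      omega
    -- a fully normalized conjugate
    let P : Set (Subgroup G) := {E₁ | E₁ ≤ (T : Subgroup G) ∧ ∃ m : G, E.map (MulAut.conj m).toMonoidHom = E₁}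
    obtain ⟨E₀, ⟨hE₀T, hE₀c⟩, hmax⟩ := Set.Finite.exists_maximalFor
      (fun E₁ : Subgroup G => Nat.card ↥((T : Subgroup G) ⊓ normalizer (E₁ : Set G))) P (Set.toFinite P)
      ⟨E, hle, 1, by ext y; simp⟩
    have hcardP : ∀ E₁ ∈ P, Nat.card E₁ = Nat.card E := fun E₁ ⟨_, m, hm⟩ => hm ▸
      (Nat.card_congr (equivMapOfInjective E _ (MulAut.conj m).injective).toEquiv).symm
    set N₀ := (T : Subgroup G) ⊓ normalizer (E₀ : Set G) with hN₀
    have hN₀2 : IsPGroup 2 N₀ := T.2.to_le inf_le_left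
    have hfull : ¬ 2 ∣ N₀.relIndex (normalizer (E₀ : Set G)) := by
      obtain ⟨P₀, hP₀⟩ := (hN₀2.comap_of_injective (normalizer (E₀ : Set G)).subtype
        (normalizer (E₀ : Set G)).subtype_injective).exists_le_sylow
      obtain ⟨y, hy⟩ := exists_conj_le_sylow (P₀.2.map (normalizer (E₀ : Set G)).subtype) T
      have hE₀P : E₀ ≤ (P₀ : Subgroup _).map (normalizer (E₀ : Set G)).subtype := fun w hw =>
        ⟨⟨w, le_normalizer hw⟩, hP₀ (show w ∈ N₀ from ⟨hE₀T hw, le_normalizer hw⟩), rfl⟩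
      have hmem : E₀.map (MulAut.conj y).toMonoidHom ∈ P := by
        refine ⟨?_, ?_⟩
        · rintro _ ⟨w, hw, rfl⟩; exact hy w (hE₀P hw)
        · obtain ⟨m, hm⟩ := hE₀c
          refine ⟨y * m, ?_⟩
          rw [← hm, map_map]
          congr 1
          ext w; simp [mul_assoc]
      have h1 : Nat.card P₀ ≤ Nat.card N₀ := by
        have hN' : Nat.card P₀ ≤
            Nat.card ↥((T : Subgroup G) ⊓ normalizer ((E₀.map (MulAut.conj y).toMonoidHom : Subgroup G) : Set G)) := by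
          refine Nat.card_le_card_of_injective (fun w : P₀ =>
            (⟨y * ((w : normalizer (E₀ : Set G)) : G) * y⁻¹, hy _ (mem_map_of_mem _ w.2),
              mem_normalizer_iff.2 fun u => ?_⟩ : ↥((T : Subgroup G) ⊓
              normalizer ((E₀.map (MulAut.conj y).toMonoidHom : Subgroup G) : Set G))))
            fun a b hab => Subtype.ext (Subtype.ext (mul_left_cancel (mul_right_cancel (congrArg Subtype.val hab))))
          set v := ((w : normalizer (E₀ : Set G)) : G)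
          have hv := mem_normalizer_iff.1 (w : normalizer (E₀ : Set G)).2
          simp only [SetLike.mem_coe, conj_mem_map]
          constructor
          · rintro ⟨d, hd, rfl⟩; exact ⟨v * d * v⁻¹, (hv d).1 hd, by group⟩
          · rintro ⟨d, hd, hde⟩
            refine ⟨v⁻¹ * d * v, (hv _).2 (by
              show v * (v⁻¹ * d * v) * v⁻¹ ∈ E₀
              rwa [show v * (v⁻¹ * d * v) * v⁻¹ = d by group]), ?_⟩
            rw [show u = (y * v * y⁻¹)⁻¹ * (y * v * y⁻¹ * u * (y * v * y⁻¹)⁻¹) * (y * v * y⁻¹) by group, ← hde]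
            group
        exact hN'.trans ((le_total _ _).elim (fun h => h) fun h => hmax hmem h)
      have heq : N₀.subgroupOf (normalizer (E₀ : Set G)) = P₀ := eq_of_le_of_card_ge hP₀ (by
        rwa [Nat.card_congr (subgroupOfEquivOfLe inf_le_right).toEquiv])
      rw [relIndex, heq]
      exact P₀.not_dvd_index
    -- maps to the fully normalized one
    have hto : ∀ E₁ ∈ P, ∃ m : G, E₁.map (MulAut.conj m).toMonoidHom = E₀ ∧
        ∀ w ∈ E₁, R w (m * w * m⁻¹) := by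
      intro E₁ hE₁
      obtain ⟨hE₁T, m₁, hm₁⟩ := hE₁
      obtain ⟨m₀, hm₀⟩ := hE₀c
      set m' := m₀ * m₁⁻¹ with hm'
      have hm'E : ∀ w, w ∈ E₁ ↔ m' * w * m'⁻¹ ∈ E₀ := fun w => by
        rw [← hm₁, ← hm₀, conj_mem_map, conj_mem_map]
        constructor
        · rintro ⟨d, hd, rfl⟩; exact ⟨d, hd, by rw [hm']; group⟩
        · rintro ⟨d, hd, hde⟩
          refine ⟨d, hd, ?_⟩
          rw [show w = m'⁻¹ * (m' * w * m'⁻¹) * m' by group, ← hde, hm']; group
      set N₁ := (T : Subgroup G) ⊓ normalizer (E₁ : Set G) with hN₁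
      have hin : N₁.map (MulAut.conj m').toMonoidHom ≤ normalizer (E₀ : Set G) := by
        rintro _ ⟨v, hv, rfl⟩
        refine mem_normalizer_iff.2 fun u => ?_
        show u ∈ E₀ ↔ m' * v * m'⁻¹ * u * (m' * v * m'⁻¹)⁻¹ ∈ E₀
        have h1 := hm'E (m'⁻¹ * u * m')
        rw [show m' * (m'⁻¹ * u * m') * m'⁻¹ = u by group] at h1
        rw [← h1, mem_normalizer_iff.1 hv.2, hm'E]
        exact iff_of_eq (congrArg (· ∈ E₀) (by group))
      obtain ⟨y, hy⟩ := exists_conj_le_sylow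
        ((((T.2.to_le inf_le_left : IsPGroup 2 N₁).map (MulAut.conj m').toMonoidHom)).comap_of_injective
          (normalizer (E₀ : Set G)).subtype (normalizer (E₀ : Set G)).subtype_injective)
        ((hN₀2.comap_of_injective _ (normalizer (E₀ : Set G)).subtype_injective).toSylow hfull)
      have hyT : ∀ w ∈ N₁, (y : G) * m' * w * ((y : G) * m')⁻¹ ∈ (T : Subgroup G) := fun w hw => by
        have h1 := hy ⟨m' * w * m'⁻¹, hin ⟨w, hw, rfl⟩⟩ ⟨w, hw, rfl⟩
        have h2 : (y : G) * (m' * w * m'⁻¹) * (y : G)⁻¹ ∈ N₀ := h1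
        rw [show (y : G) * m' * w * ((y : G) * m')⁻¹ = (y : G) * (m' * w * m'⁻¹) * (y : G)⁻¹ by group]
        exact h2.1
      refine ⟨y * m', ?_, fun w hw => ih N₁ (hgrow E₁ hE₁T (hcardP E₁ ⟨hE₁T, m₁, hm₁⟩)) inf_le_left _ hyT w
        ⟨hE₁T hw, le_normalizer hw⟩⟩
      ext u
      rw [conj_mem_map]
      constructor
      · rintro ⟨w, hw, rfl⟩
        rw [show (y : G) * m' * w * ((y : G) * m')⁻¹ = (y : G) * (m' * w * m'⁻¹) * (y : G)⁻¹ by group]
        exact (mem_normalizer_iff.1 y.2 _).1 ((hm'E w).1 hw)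
      · intro hu
        refine ⟨((y : G) * m')⁻¹ * u * ((y : G) * m'), (hm'E _).2 ?_, by group⟩
        rw [show m' * (((y : G) * m')⁻¹ * u * ((y : G) * m')) * m'⁻¹ = (y : G)⁻¹ * u * (y : G) by group]
        exact (mem_normalizer_iff.1 y.2 _).2 (by simpa [mul_assoc] using hu)
    obtain ⟨a, ha, haR⟩ := hto E ⟨hle, 1, by ext y; simp⟩
    set E' := E.map (MulAut.conj g).toMonoidHom with hE'
    have hE'P : E' ∈ P := ⟨by rintro _ ⟨w, hw, rfl⟩; exact hg w hw, g, rfl⟩
    obtain ⟨b, hb, hbR⟩ := hto E' hE'P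
    set n₀ := b * g * a⁻¹ with hn₀
    have hn₀N : n₀ ∈ normalizer (E₀ : Set G) := by
      rw [mem_normalizer_iff_map_conj_eq, ← MulEquiv.toMonoidHom_eq_coe]
      nth_rw 1 [← ha]
      rw [map_map]
      conv_rhs => rw [← hb, hE', map_map]
      congr 1
      ext w; simp [hn₀, mul_assoc]
    suffices hkey : R (a * x * a⁻¹) (n₀ * (a * x * a⁻¹) * n₀⁻¹) by
      refine htrans _ _ _ (haR x hx) (htrans _ _ _ hkey ?_)
      rw [show n₀ * (a * x * a⁻¹) * n₀⁻¹ = b * (g * x * g⁻¹) * b⁻¹ by rw [hn₀]; group]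
      exact hsymm _ _ (hbR _ ⟨x, hx, rfl⟩)
    have hx₀ : a * x * a⁻¹ ∈ E₀ := ha ▸ ⟨x, hx, rfl⟩
    set y₀ := a * x * a⁻¹
    -- the kernel of the action on `E₀` modulo `S`
    set N := normalizer (E₀ : Set G) with hNdef
    have hinv : ∀ m ∈ N, ∀ s ∈ E₀, s ∈ S → m * s * m⁻¹ ∈ S := fun m hm s hs hsS =>
      hsc.2 s hsS m (hE₀T ((mem_normalizer_iff.1 hm s).1 hs))
    let K : Subgroup N :=
      { carrier := {k | ∀ e ∈ E₀, (k : G) * e * (k : G)⁻¹ * e⁻¹ ∈ S}
        one_mem' := fun e _ => by simp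
        mul_mem' := fun {a b} ha hb e he => by
          show (a : G) * b * e * ((a : G) * b)⁻¹ * e⁻¹ ∈ S
          rw [show (a : G) * b * e * ((a : G) * b)⁻¹ * e⁻¹ =
            (a : G) * ((b : G) * e * (b : G)⁻¹ * e⁻¹) * (a : G)⁻¹ * ((a : G) * e * (a : G)⁻¹ * e⁻¹) by group]
          exact mul_mem (hinv a a.2 _ (mul_mem ((mem_normalizer_iff.1 b.2 e).1 he) (inv_mem he)) (hb e he))
            (ha e he)
        inv_mem' := fun {a} ha e he => by
          show (a : G)⁻¹ * e * (a : G)⁻¹⁻¹ * e⁻¹ ∈ S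
          rw [show (a : G)⁻¹ * e * (a : G)⁻¹⁻¹ * e⁻¹ =
            (a : G)⁻¹ * ((a : G) * e * (a : G)⁻¹ * e⁻¹)⁻¹ * (a : G)⁻¹⁻¹ by group]
          exact hinv _ (inv_mem a.2) _ (inv_mem (mul_mem ((mem_normalizer_iff.1 a.2 e).1 he) (inv_mem he)))
            (inv_mem (ha e he)) }
    haveI hKn : K.Normal := ⟨fun k hk m e he => by
      show (m : G) * k * (m : G)⁻¹ * e * ((m : G) * k * (m : G)⁻¹)⁻¹ * e⁻¹ ∈ S
      set e' := (m : G)⁻¹ * e * m with he'
      have he'E : e' ∈ E₀ := (mem_normalizer_iff.1 m.2 e').2 (by rw [he']; simpa [mul_assoc] using he)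
      rw [show (m : G) * k * (m : G)⁻¹ * e * ((m : G) * k * (m : G)⁻¹)⁻¹ * e⁻¹ =
        (m : G) * ((k : G) * e' * (k : G)⁻¹ * e'⁻¹) * (m : G)⁻¹ by rw [he']; group]
      exact hinv _ m.2 _ (mul_mem ((mem_normalizer_iff.1 k.2 _).1 he'E) (inv_mem he'E)) (hk _ he'E)⟩
    set P₁ : Sylow 2 N := (hN₀2.comap_of_injective _ N.subtype_injective).toSylow hfull with hP₁
    obtain ⟨P₂, hP₂⟩ : ∃ P₂ : Sylow 2 K, (P₂ : Subgroup K) = (P₁ : Subgroup N).subgroupOf K :=
      ⟨(P₁.2.comap_of_injective K.subtype K.subtype_injective).toSylow (fun h2 =>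
        P₁.not_dvd_index (h2.trans (CfsgLib.ProdFusion.relIndex_dvd_of_normal (P₁ : Subgroup N) K))), rfl⟩
    have hfr := Sylow.normalizer_sup_eq_top P₂
    obtain ⟨m, hm, k, hk, hmk⟩ := mem_sup_of_normal_right.1 (hfr ▸ mem_top (⟨n₀, hn₀N⟩ : N))
    have hn₀e : n₀ = (m : G) * k := (congrArg Subtype.val hmk).symm
    set y₁ := (k : G) * y₀ * (k : G)⁻¹ with hy₁
    have hy₁E : y₁ ∈ E₀ := (mem_normalizer_iff.1 k.2 _).1 hx₀
    refine htrans _ y₁ _ (hK E₀ hE₀T hN₀2 hfull k k.2 hk y₀ hx₀) ?_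
    rw [show n₀ * y₀ * n₀⁻¹ = (m : G) * y₁ * (m : G)⁻¹ by rw [hn₀e, hy₁]; group]
    -- the bigger group
    set PK := ((P₂ : Subgroup K).map K.subtype).map N.subtype with hPK
    have hPKle : PK ≤ (T : Subgroup G) ⊓ N := by
      rintro _ ⟨_, ⟨w, hw, rfl⟩, rfl⟩
      rw [hP₂] at hw
      exact hw
    set E₂ := E₀ ⊔ PK with hE₂
    have hE₂T : E₂ ≤ (T : Subgroup G) := sup_le hE₀T (hPKle.trans inf_le_left)
    have hSPK : S ⊓ N ≤ PK := by
      rintro w ⟨hwS, hwN⟩
      have hwK : (⟨w, hwN⟩ : N) ∈ K := fun e he => by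
        show w * e * w⁻¹ * e⁻¹ ∈ S
        rw [show w * e * w⁻¹ * e⁻¹ = w * (e * w⁻¹ * e⁻¹) by group]
        exact mul_mem hwS (hsc.2 _ (inv_mem hwS) e (mul_mem (mul_mem (hE₀T he) (inv_mem (hsc.1 hwS)))
          (inv_mem (hE₀T he))))
      refine ⟨⟨w, hwN⟩, ⟨⟨_, hwK⟩, ?_, rfl⟩, rfl⟩
      rw [hP₂]
      exact ⟨hsc.1 hwS, hwN⟩
    have hlt : Nat.card E₀ < Nat.card E₂ := by
      by_contra hh
      have heq : E₀ = E₂ := eq_of_le_of_card_ge le_sup_left (not_lt.1 hh)
      have hSN : ¬ S ≤ E₀ := fun hle' => hSE fun s hs => by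
        obtain ⟨m₀, hm₀⟩ := hE₀c
        have h1 : ∀ t ∈ S, m₀⁻¹ * t * m₀ ∈ E := fun t ht => by
          obtain ⟨d, hd, hde⟩ := conj_mem_map.1 (hm₀.symm ▸ hle' ht : t ∈ E.map (MulAut.conj m₀).toMonoidHom)
          rwa [← hde, show m₀⁻¹ * (m₀ * d * m₀⁻¹) * m₀ = d by group]
        have h2 : S.map (MulAut.conj m₀⁻¹).toMonoidHom ≤ S ⊓ E := by
          rintro _ ⟨t, ht, rfl⟩
          have := h1 t ht
          show m₀⁻¹ * t * m₀⁻¹⁻¹ ∈ S ⊓ E
          rw [inv_inv]
          refine ⟨?_, this⟩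
          simpa using hsc.2 t ht m₀⁻¹ (by simpa using hle this)
        have h3 : S.map (MulAut.conj m₀⁻¹).toMonoidHom = S := eq_of_le_of_card_ge (h2.trans inf_le_left)
          (Nat.card_congr (equivMapOfInjective S _ (MulAut.conj m₀⁻¹).injective).toEquiv).le
        exact (h2 (h3.symm ▸ hs)).2
      have hnorm : ∀ w ∈ S, w ∈ N → w ∈ E₀ := fun w hw hwN => heq.ge (mem_sup_right (hSPK ⟨hw, hwN⟩))
      set M := E₀ ⊔ S with hM
      have hMT : M ≤ (T : Subgroup G) := sup_le hE₀T hsc.1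
      haveI : Group.IsNilpotent ↥M := (T.2.to_le hMT).isNilpotent
      have hne : E₀.subgroupOf M < ⊤ := lt_top_iff_ne_top.2 fun e =>
        hSN fun s hs => (subgroupOf_eq_top.1 e) (mem_sup_right hs)
      obtain ⟨w, hw, hw'⟩ := SetLike.exists_of_lt (Group.normalizerCondition_of_isNilpotent (G := ↥M) _ hne)
      have hwN : (w : G) ∈ N := mem_normalizer_iff.2 fun u => by
        have h2 := mem_normalizer_iff.1 hw
        constructor
        · exact fun hu => (h2 ⟨u, mem_sup_left hu⟩).1 hu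
        · intro hu
          have huM : u ∈ M := by
            simpa [mul_assoc] using mul_mem (mul_mem (inv_mem w.2) (mem_sup_left hu : _ ∈ M)) w.2
          exact (h2 ⟨u, huM⟩).2 hu
      have hEnS : E₀ ≤ normalizer (S : Set G) := fun v hv =>
        mem_normalizer_iff.2 fun u => ⟨fun hu => hsc.2 u hu v (mul_mem (mul_mem (hE₀T hv) (hsc.1 hu))
          (inv_mem (hE₀T hv))), fun hu => by
            have huT : u ∈ (T : Subgroup G) := by
              simpa [mul_assoc] using mul_mem (mul_mem (inv_mem (hE₀T hv)) (hsc.1 hu)) (hE₀T hv)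
            simpa [mul_assoc] using hsc.2 _ hu v⁻¹ (by simpa [mul_assoc] using huT)⟩
      obtain ⟨s, hs, d, hd, hds⟩ := CfsgLib.Coprime.mem_sup_exists hEnS
        (show (w : G) ∈ S ⊔ E₀ from sup_comm E₀ S ▸ w.2)
      refine hw' (show (w : G) ∈ E₀ from ?_)
      rw [← hds] at hwN ⊢
      exact mul_mem (hnorm s hs (by simpa using mul_mem hwN (inv_mem (le_normalizer hd : d ∈ N)))) hd
    have hcard₂ : Nat.card (T : Subgroup G) ≤ n + Nat.card E₂ := by
      have := hcardP E₀ ⟨hE₀T, hE₀c⟩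
      omega
    refine ih E₂ hcard₂ hE₂T (m : G) (fun w hw => hE₂T ?_) y₁ (mem_sup_left hy₁E)
    have hmE₂ : E₂.map (MulAut.conj (m : G)).toMonoidHom ≤ E₂ := by
      rw [hE₂, Subgroup.map_sup]
      refine sup_le_sup ?_ ?_
      · rintro _ ⟨v, hv, rfl⟩; exact (mem_normalizer_iff.1 m.2 v).1 hv
      · rintro _ ⟨_, ⟨v, ⟨v', hv', rfl⟩, rfl⟩, rfl⟩
        exact ⟨m * (v' : N) * m⁻¹, (mem_normalizer_iff.1 hm _).1 ⟨v', hv', rfl⟩, rfl⟩
    exact hmE₂ ⟨w, hw, rfl⟩

/-- **The centralizer of a strongly closed subgroup with one involution is strongly closed.** -/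
theorem centralizer_strongly_closed (hsc : Cfsg.IsStronglyClosed S (T : Subgroup G))
    (hone : ∀ a ∈ S, ∀ b ∈ S, orderOf a = 2 → orderOf b = 2 → a = b) :
    Cfsg.IsStronglyClosed ((T : Subgroup G) ⊓ centralizer (S : Set G)) (T : Subgroup G) := by
  classical
  haveI : Fact (Nat.Prime 2) := ⟨Nat.prime_two⟩
  refine ⟨inf_le_left, fun x hx g hg => ⟨hg, ?_⟩⟩
  refine (rel_of_fusion hsc (fun a b => a ∈ centralizer (S : Set G) ↔ b ∈ centralizer (S : Set G))
    (fun _ _ h => h.symm) (fun _ _ _ h1 h2 => h1.trans h2) ?_ ?_ (mem_inf.1 hx).1 hg).1 (mem_inf.1 hx).2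
  · intro m hm e _ _
    have key : ∀ m ∈ normalizer (S : Set G), ∀ e, e ∈ centralizer (S : Set G) →
        m * e * m⁻¹ ∈ centralizer (S : Set G) := fun m hm e he => mem_centralizer_iff.2 fun s hs => by
      have h1 := mem_centralizer_iff.1 he (m⁻¹ * s * m) ((mem_normalizer_iff.1 hm _).2 (by simpa [mul_assoc] using hs))
      calc s * (m * e * m⁻¹) = m * (m⁻¹ * s * m * e) * m⁻¹ := by group
        _ = m * (e * (m⁻¹ * s * m)) * m⁻¹ := by rw [h1]
        _ = _ := by group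
    exact ⟨key m hm e, fun he => by simpa [mul_assoc] using key m⁻¹ (inv_mem hm) _ he⟩
  intro E hET hN2 hfull k hk hkE e he
  suffices key : ∀ k ∈ normalizer (E : Set G), (∀ e ∈ E, k * e * k⁻¹ * e⁻¹ ∈ S) → ∀ e ∈ E,
      e ∈ centralizer (S : Set G) → k * e * k⁻¹ ∈ centralizer (S : Set G) by
    refine ⟨key k hk hkE e he, fun h1 => ?_⟩
    have := key k⁻¹ (inv_mem hk) (fun v hv => ?_) _ ((mem_normalizer_iff.1 hk e).1 he) h1
    · simpa [mul_assoc] using this
    · have hv' : k⁻¹ * v * k ∈ E := (mem_normalizer_iff.1 hk _).2 (by simpa [mul_assoc] using hv)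
      have h2 := hkE _ hv'
      rw [show k * (k⁻¹ * v * k) * k⁻¹ * (k⁻¹ * v * k)⁻¹ = v * (k⁻¹ * v * k)⁻¹ by group] at h2
      simpa [mul_assoc] using inv_mem h2
  clear hk hkE k he e
  intro k hk hkE c hcE hcS
  set N := normalizer (E : Set G) with hN
  let K : Set N := {a | ∀ v ∈ E, (a : G) * v * (a : G)⁻¹ * v⁻¹ ∈ S}
  have hinv : ∀ m ∈ N, ∀ s ∈ E, s ∈ S → m * s * m⁻¹ ∈ S := fun m hm s hs hsS =>
    hsc.2 s hsS m (hET ((mem_normalizer_iff.1 hm s).1 hs))
  let KK : Subgroup N :=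
    { carrier := K
      one_mem' := fun v _ => by simp
      mul_mem' := fun {a b} ha hb v hv => by
        show (a : G) * b * v * ((a : G) * b)⁻¹ * v⁻¹ ∈ S
        rw [show (a : G) * b * v * ((a : G) * b)⁻¹ * v⁻¹ =
          (a : G) * ((b : G) * v * (b : G)⁻¹ * v⁻¹) * (a : G)⁻¹ * ((a : G) * v * (a : G)⁻¹ * v⁻¹) by group]
        exact mul_mem (hinv a a.2 _ (mul_mem ((mem_normalizer_iff.1 b.2 v).1 hv) (inv_mem hv)) (hb v hv))
          (ha v hv)
      inv_mem' := fun {a} ha v hv => by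
        show (a : G)⁻¹ * v * (a : G)⁻¹⁻¹ * v⁻¹ ∈ S
        rw [show (a : G)⁻¹ * v * (a : G)⁻¹⁻¹ * v⁻¹ =
          (a : G)⁻¹ * ((a : G) * v * (a : G)⁻¹ * v⁻¹)⁻¹ * (a : G)⁻¹⁻¹ by group]
        exact hinv _ (inv_mem a.2) _ (inv_mem (mul_mem ((mem_normalizer_iff.1 a.2 v).1 hv) (inv_mem hv)))
          (inv_mem (ha v hv)) }
  -- the elements of odd order fix `c`
  have hodd : ∀ a : KK, Odd (orderOf a) → ((a : N) : G) * c * ((a : N) : G)⁻¹ = c := by
    intro a ha
    set b := ((a : N) : G) with hb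
    have hbo : Odd (orderOf b) := by rw [hb, Subgroup.orderOf_coe, Subgroup.orderOf_coe]; exact ha
    have hbN : b ∈ N := (a : N).2
    set s := c⁻¹ * (b * c * b⁻¹) with hs
    have hsE : s ∈ E := mul_mem (inv_mem hcE) ((mem_normalizer_iff.1 hbN c).1 hcE)
    have hsS : s ∈ S := by
      have h1 : b * c * b⁻¹ * c⁻¹ ∈ S := a.2 c hcE
      have := hsc.2 _ h1 c⁻¹ (mul_mem (mul_mem (inv_mem (hET hcE)) (hsc.1 h1)) (inv_mem (inv_mem (hET hcE))))
      simpa [hs, mul_assoc] using this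
    -- the centre of the part in `S`
    set Z := S ⊓ E ⊓ centralizer ((S ⊓ E : Subgroup G) : Set G) with hZ
    have hbZ : ∀ w ∈ Z, b * w * b⁻¹ ∈ Z := fun w hw => by
      refine ⟨⟨hinv b hbN w hw.1.2 hw.1.1, (mem_normalizer_iff.1 hbN w).1 hw.1.2⟩, mem_centralizer_iff.2 fun u hu => ?_⟩
      have hu' : b⁻¹ * u * b ∈ S ⊓ E := ⟨by simpa using hinv b⁻¹ (inv_mem hbN) u hu.2 hu.1,
        (mem_normalizer_iff.1 hbN _).2 (by simpa [mul_assoc] using hu.2)⟩
      calc u * (b * w * b⁻¹) = b * (b⁻¹ * u * b * w) * b⁻¹ := by group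
        _ = b * (w * (b⁻¹ * u * b)) * b⁻¹ := by rw [mem_centralizer_iff.1 hw.2 _ hu']
        _ = _ := by group
    have hsZ : s ∈ Z := by
      refine ⟨⟨hsS, hsE⟩, mem_centralizer_iff.2 fun u hu => ?_⟩
      have hu' : b⁻¹ * u * b ∈ S ⊓ E := ⟨by simpa using hinv b⁻¹ (inv_mem hbN) u hu.2 hu.1,
        (mem_normalizer_iff.1 hbN _).2 (by simpa [mul_assoc] using hu.2)⟩
      have h1 : Commute u (b * c * b⁻¹) := by
        have h0 : Commute (b⁻¹ * u * b) c := mem_centralizer_iff.1 hcS _ hu'.1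
        simpa [mul_assoc] using h0.conj b
      exact ((show Commute u c from mem_centralizer_iff.1 hcS u hu.1).inv_right.mul_right h1).eq
    haveI : IsMulCommutative Z := ⟨⟨fun u v => Subtype.ext (mem_centralizer_iff.1 v.2.2 _ u.2.1)⟩⟩
    have hfix := CfsgLib.Tight.fixed_of_odd (Z := Z) (b := b) (T.2.to_le ((inf_le_left.trans inf_le_left).trans hsc.1))
      (fun u hu v hv => hone u hu.1.1 v hv.1.1) hbZ hbo s hsZ
    have hpow : ∀ j : ℕ, b ^ j * c * (b ^ j)⁻¹ = c * s ^ j := by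
      intro j
      induction j with
      | zero => simp
      | succ j ih =>
        calc b ^ (j + 1) * c * (b ^ (j + 1))⁻¹ = b * (b ^ j * c * (b ^ j)⁻¹) * b⁻¹ := by rw [pow_succ']; group
          _ = b * c * b⁻¹ * (b * s * b⁻¹) ^ j := by rw [ih, conj_pow]; group
          _ = c * s ^ (j + 1) := by
              rw [hfix, show b * c * b⁻¹ = c * s by rw [hs, mul_inv_cancel_left], pow_succ', mul_assoc]
    have h2 := hpow (orderOf b)
    rw [pow_orderOf_eq_one, one_mul, inv_one, mul_one, left_eq_mul] at h2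
    obtain ⟨i, hi⟩ := T.2 ⟨s, hsc.1 hsS⟩
    have hs1 : s = 1 := eq_one_of_odd_of_pow_two (hbo.of_dvd_nat (orderOf_dvd_of_pow_eq_one h2))
      (congrArg Subtype.val hi : s ^ 2 ^ i = 1)
    calc b * c * b⁻¹ = c * s := by rw [hs, mul_inv_cancel_left]
      _ = c := by rw [hs1, mul_one]
  -- the elements of odd order and the two-part
  set Rodd : Subgroup KK := Subgroup.closure {a : KK | Odd (orderOf a)} with hR
  haveI : Rodd.Normal := ⟨fun a ha m => by
    have h1 : Rodd.map (MulAut.conj m).toMonoidHom ≤ Rodd := by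
      rw [hR, MonoidHom.map_closure]
      refine closure_mono ?_
      rintro _ ⟨v, hv, rfl⟩
      show Odd (orderOf (MulAut.conj m v))
      rw [MulEquiv.orderOf_eq]; exact hv
    exact h1 ⟨a, ha, rfl⟩⟩
  have hfixR : ∀ a ∈ Rodd, ((a : N) : G) * c * ((a : N) : G)⁻¹ = c := by
    intro a ha
    refine closure_induction (fun v hv => hodd v hv) (by simp) (fun u v _ _ hu hv => ?_) (fun u _ hu => ?_) ha
    · show ((u : N) : G) * (v : N) * c * (((u : N) : G) * (v : N))⁻¹ = c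
      rw [show ((u : N) : G) * (v : N) * c * (((u : N) : G) * (v : N))⁻¹ =
        ((u : N) : G) * (((v : N) : G) * c * ((v : N) : G)⁻¹) * ((u : N) : G)⁻¹ by group, hv, hu]
    · show ((u : N) : G)⁻¹ * c * ((u : N) : G)⁻¹⁻¹ = c
      conv_lhs => rw [← hu]
      group
  have hKKn : ∀ m : N, ∀ a : KK, m * a * m⁻¹ ∈ KK := fun m a v hv => by
    show (m : G) * (a : N) * (m : G)⁻¹ * v * ((m : G) * (a : N) * (m : G)⁻¹)⁻¹ * v⁻¹ ∈ S
    set v' := (m : G)⁻¹ * v * m with hv'
    have hv'E : v' ∈ E := (mem_normalizer_iff.1 m.2 v').2 (by rw [hv']; simpa [mul_assoc] using hv)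
    rw [show (m : G) * (a : N) * (m : G)⁻¹ * v * ((m : G) * (a : N) * (m : G)⁻¹)⁻¹ * v⁻¹ =
      (m : G) * (((a : N) : G) * v' * ((a : N) : G)⁻¹ * v'⁻¹) * (m : G)⁻¹ by rw [hv']; group]
    exact hinv _ m.2 _ (mul_mem ((mem_normalizer_iff.1 (a : N).2 _).1 hv'E) (inv_mem hv'E)) (a.2 _ hv'E)
  haveI : KK.Normal := ⟨fun a ha m => hKKn m ⟨a, ha⟩⟩
  set P : Sylow 2 N := (hN2.comap_of_injective _ N.subtype_injective).toSylow hfull with hP
  obtain ⟨P', hP'⟩ : ∃ P' : Sylow 2 KK, (P' : Subgroup KK) = (P : Subgroup N).subgroupOf KK :=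
    ⟨(P.2.comap_of_injective KK.subtype KK.subtype_injective).toSylow (fun h2 =>
      P.not_dvd_index (h2.trans (CfsgLib.ProdFusion.relIndex_dvd_of_normal (P : Subgroup N) KK))), rfl⟩
  have htop : (P' : Subgroup KK) ⊔ Rodd = ⊤ := CfsgLib.Tight.sylow_sup_odd P'
  obtain ⟨p, hp, a, ha, hpa⟩ := mem_sup_of_normal_right.1 (htop ▸ mem_top (⟨⟨k, hk⟩, hkE⟩ : KK))
  have hk' : k = ((p : N) : G) * (a : N) := (congrArg (fun v : KK => ((v : N) : G)) hpa).symm
  rw [hk', show ((p : N) : G) * (a : N) * c * (((p : N) : G) * (a : N))⁻¹ =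
    ((p : N) : G) * (((a : N) : G) * c * ((a : N) : G)⁻¹) * ((p : N) : G)⁻¹ by group, hfixR a ha]
  rw [hP'] at hp
  have hpT : ((p : N) : G) ∈ (T : Subgroup G) := (show ((p : N) : G) ∈ (T : Subgroup G) ⊓ N from hp).1
  refine mem_centralizer_iff.2 fun s hs => ?_
  set q := ((p : N) : G)
  have hq : q⁻¹ * s * q ∈ S := by
    simpa using hsc.2 s hs q⁻¹ (by simpa using mul_mem (mul_mem (inv_mem hpT) (hsc.1 hs)) hpT)
  calc s * (q * c * q⁻¹) = q * (q⁻¹ * s * q * c) * q⁻¹ := by group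
    _ = q * (c * (q⁻¹ * s * q)) * q⁻¹ := by rw [mem_centralizer_iff.1 hcS _ hq]
    _ = _ := by group

end CfsgLib.SECrit.Closure
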