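import Cfsg.Agent.Lib.Invol.SECriterion.Closure.Pairing
import Cfsg.Agent.Lib.Invol.SECriterion.Shape.Rank
import Cfsg.Agent.Lib.Bender.Suzuki.QModel.Coordinates
import Cfsg.Agent.Lib.Bender.Suzuki.Small
import Cfsg.Agent.Lib.Bender.Suzuki.Setup
import Cfsg.Agent.Lib.Bender.Suzuki.Lines
import Cfsg.Agent.Lib.Bender.Suzuki.WBound.Main
import Cfsg.Agent.Lib.Bender.Suzuki.Field
import Cfsg.Agent.S1139
import Mathlib.FieldTheory.Finite.GaloisField

/-!
# An irreducible operator on the classes of the regular two-group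

An element of the point stabiliser acts on the classes of `Q` modulo the involutions as a multiplication
generating the field and of an order dividing no `2 ^ j + 1`.
-/

set_option autoImplicit false
set_option linter.style.haveILetI false

namespace CfsgLib.SECrit.Closure

open Subgroup MulAction

universe u

variable {G : Type u} [Group G]

/-- The classes of `Q` modulo `E` as a field with the multiplication `μ` induced by an element of `H`. -/
structure Mult (H Q E : Subgroup G) (F : Type) [Field F] (U : G → F) (μ : F) : Prop where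
  mem_E : ∀ x, x ∈ E ↔ x ∈ Q ∧ x * x = 1
  mul : ∀ y ∈ Q, ∀ v ∈ Q, U (y * v) = U y + U v
  zero_iff : ∀ y ∈ Q, U y = 0 ↔ y ∈ E
  surj : ∀ x : F, ∃ y ∈ Q, U y = x
  conj : ∃ c ∈ H, ∀ y ∈ Q, c * y * c⁻¹ ∈ Q ∧ U (c * y * c⁻¹) = μ * U y
  irr : ∀ W : AddSubgroup F, (∀ x ∈ W, μ * x ∈ W) → W = ⊥ ∨ W = ⊤
  not_one : ∀ j : ℕ, μ ^ (2 ^ j + 1) ≠ 1

variable [Finite G]

/-- The multiplication from an operator without fixed classes in its powers. -/
theorem exists_mult {H Q E : Subgroup G} (hE : ∀ x, x ∈ E ↔ x ∈ Q ∧ x * x = 1)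
    (hsq : ∀ y ∈ Q, y * y ∈ E) (hcom : ∀ e ∈ E, ∀ y ∈ Q, Commute e y) {c : G} (hcH : c ∈ H)
    (hcQ : ∀ y, y ∈ Q ↔ c * y * c⁻¹ ∈ Q) {d n : ℕ} (hd : 0 < d) (hn : 3 ≤ n) (hcn : c ^ n = 1)
    (hcard : Nat.card Q = 2 ^ d * Nat.card E)
    (hfree : ∀ (i : ℕ), ∀ y ∈ Q, y ∉ E → (c ^ i * y * (c ^ i)⁻¹)⁻¹ * y ∈ E → n ∣ i)
    (hirr : ∀ j, 0 < j → j < d → ¬ n ∣ 2 ^ j - 1) (hhalf : ∀ e, 2 * e = d → ¬ n ∣ 2 ^ e + 1) :
    ∃ (F : Type) (_ : Field F) (_ : Finite F) (_ : CharP F 2) (U : G → F) (μ : F), Mult H Q E F U μ := by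
  classical
  haveI : Fact (Nat.Prime 2) := ⟨Nat.prime_two⟩
  have hEQ : E ≤ Q := fun x hx => ((hE x).1 hx).1
  haveI hEn : (E.subgroupOf Q).Normal := ⟨fun e he g => by
    rw [mem_subgroupOf] at he ⊢
    show (g : G) * e * (g : G)⁻¹ ∈ E
    rw [← (hcom _ he g g.2).eq, mul_inv_cancel_right]
    exact he⟩
  have h2 : ∀ x : Q ⧸ E.subgroupOf Q, x * x = 1 := fun x => by
    obtain ⟨g, rfl⟩ := QuotientGroup.mk_surjective x
    exact (QuotientGroup.eq_one_iff (g * g)).2 (mem_subgroupOf.2 (hsq g g.2))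
  letI : CommGroup (Q ⧸ E.subgroupOf Q) := CommGroup.mk (fun x y => by
    calc x * y = (x * y)⁻¹ := (inv_eq_of_mul_eq_one_left (h2 _)).symm
      _ = y * x := by rw [mul_inv_rev, inv_eq_of_mul_eq_one_left (h2 x), inv_eq_of_mul_eq_one_left (h2 y)])
  have hQi : ∀ (i : ℕ) (y : G), y ∈ Q ↔ c ^ i * y * (c ^ i)⁻¹ ∈ Q := by
    intro i
    induction i with
    | zero => simp
    | succ i ih =>
      intro y
      rw [ih, hcQ, show c * (c ^ i * y * (c ^ i)⁻¹) * c⁻¹ = c ^ (i + 1) * y * (c ^ (i + 1))⁻¹ by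
        rw [pow_succ']; group]
  have hcE : ∀ y, y ∈ E ↔ c * y * c⁻¹ ∈ E := fun y => by
    rw [hE, hE, ← hcQ, show c * y * c⁻¹ * (c * y * c⁻¹) = c * (y * y) * c⁻¹ by group, conj_eq_one_iff]
  let β : MulAut Q :=
    { toFun := fun y => ⟨c * y * c⁻¹, (hcQ _).1 y.2⟩
      invFun := fun y => ⟨c⁻¹ * y * c, (hcQ _).2 (by simpa [mul_assoc] using y.2)⟩
      left_inv := fun y => Subtype.ext (show c⁻¹ * (c * (y : G) * c⁻¹) * c = y by group)
      right_inv := fun y => Subtype.ext (show c * (c⁻¹ * (y : G) * c) * c⁻¹ = y by group)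
      map_mul' := fun y v => Subtype.ext
        (show c * ((y : G) * v) * c⁻¹ = c * y * c⁻¹ * (c * v * c⁻¹) by group) }
  have hβE : (E.subgroupOf Q).map β.toMonoidHom = E.subgroupOf Q := by
    ext y
    constructor
    · rintro ⟨v, hv, rfl⟩
      exact mem_subgroupOf.2 ((hcE _).1 (mem_subgroupOf.1 hv))
    · intro hy
      refine ⟨β.symm y, mem_subgroupOf.2 ((hcE _).2 ?_), β.apply_symm_apply y⟩
      show c * (c⁻¹ * (y : G) * c) * c⁻¹ ∈ E
      rw [show c * (c⁻¹ * (y : G) * c) * c⁻¹ = (y : G) by group]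
      exact mem_subgroupOf.1 hy
  let α : MulAut (Q ⧸ E.subgroupOf Q) := QuotientGroup.congr _ _ β hβE
  have hαi : ∀ (i : ℕ) (y : Q), (α ^ i) (QuotientGroup.mk y) =
      QuotientGroup.mk (⟨c ^ i * y * (c ^ i)⁻¹, (hQi i y).1 y.2⟩ : Q) := by
    intro i
    induction i with
    | zero => intro y; simp
    | succ i ih =>
      intro y
      rw [pow_succ', MulAut.mul_apply, ih]
      show QuotientGroup.mk (β _) = _
      refine congrArg QuotientGroup.mk (Subtype.ext ?_)
      show c * (c ^ i * (y : G) * (c ^ i)⁻¹) * c⁻¹ = c ^ (i + 1) * y * (c ^ (i + 1))⁻¹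
      rw [pow_succ']; group
  have hV : Nat.card (Q ⧸ E.subgroupOf Q) = 2 ^ d := by
    have h1 := (E.subgroupOf Q).card_eq_card_quotient_mul_card_subgroup
    rw [Nat.card_congr (subgroupOfEquivOfLe hEQ).toEquiv, hcard] at h1
    exact (Nat.eq_of_mul_eq_mul_right Nat.card_pos h1).symm
  have hαn : α ^ n = 1 := MulEquiv.ext fun x => by
    obtain ⟨y, rfl⟩ := QuotientGroup.mk_surjective x
    rw [hαi]
    exact congrArg QuotientGroup.mk (Subtype.ext (show c ^ n * (y : G) * (c ^ n)⁻¹ = y by rw [hcn]; simp))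
  have hfree' : ∀ (i : ℕ) (v : Q ⧸ E.subgroupOf Q), v ≠ 1 → (α ^ i) v = v → n ∣ i := by
    intro i v hv hfix
    obtain ⟨y, rfl⟩ := QuotientGroup.mk_surjective v
    rw [hαi, QuotientGroup.eq, mem_subgroupOf] at hfix
    exact hfree i y y.2 (fun hh => hv ((QuotientGroup.eq_one_iff y).2 (mem_subgroupOf.2 hh))) hfix
  let F := GaloisField 2 d
  have hF : Nat.card F = 2 ^ d := GaloisField.card 2 d hd.ne'
  haveI : Finite F := Nat.finite_of_card_ne_zero (by rw [hF]; positivity)
  obtain ⟨U₀, μ, hU, hUmul, hUα, hμn⟩ :=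
    CfsgLib.Bender.Suzuki.exists_field_model hd hF hV α hαn (by omega) hfree' hirr
  let U : G → F := fun y => if hy : y ∈ Q then U₀ (QuotientGroup.mk ⟨y, hy⟩) else 0
  have hU' : ∀ (y : G) (hy : y ∈ Q), U y = U₀ (QuotientGroup.mk ⟨y, hy⟩) := fun y hy => dif_pos hy
  have hU1 : U₀ 1 = 0 := by
    have h1 := hUmul 1 1
    rwa [one_mul, left_eq_add] at h1
  have hnd : n ∣ 2 ^ d - 1 := by
    letI := Fintype.ofFinite F
    rw [← hμn, ← hF, Nat.card_eq_fintype_card]
    refine orderOf_dvd_of_pow_eq_one (FiniteField.pow_card_sub_one_eq_one μ fun e => ?_)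
    rw [e, orderOf_zero] at hμn
    omega
  refine ⟨F, inferInstance, inferInstance, inferInstance, U, μ, hE, fun y hy v hv => ?_, fun y hy => ?_,
    fun x => ?_, ⟨c, hcH, fun y hy => ⟨(hcQ y).1 hy, ?_⟩⟩,
    bot_or_top_of_mul_mem hF hμn (by omega) hirr, fun j hj => ?_⟩
  · rw [hU' _ hy, hU' _ hv, hU' _ (mul_mem hy hv), ← hUmul]
    rfl
  · rw [hU' _ hy, ← hU1, hU.1.eq_iff, QuotientGroup.eq_one_iff, mem_subgroupOf]
  · obtain ⟨v, rfl⟩ := hU.2 x
    obtain ⟨y, rfl⟩ := QuotientGroup.mk_surjective v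
    exact ⟨y, y.2, by rw [hU' _ y.2]⟩
  · rw [hU' _ hy, hU' _ ((hcQ y).1 hy), ← hUα]
    rfl
  · refine not_dvd_pow_add_one hd hn hnd hirr hhalf j ?_
    rw [← hμn]
    exact orderOf_dvd_of_pow_eq_one hj

/-- **The regular two-group is elementary or its classes carry an irreducible multiplication.** -/
theorem exists_mult_of_data {H Q : Subgroup G} (h : Shape.Data H Q) :
    (∀ y ∈ Q, y * y = 1) ∨ ∃ (E : Subgroup G) (F : Type) (_ : Field F) (_ : Finite F) (_ : CharP F 2)
      (U : G → F) (μ : F), Mult H Q E F U μ := by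
  classical
  obtain ⟨t, hS⟩ := h.exists_setup
  haveI : FaithfulSMul G (G ⧸ H) := ⟨fun {g₁ g₂} hg => by
    refine inv_mul_eq_one.1 (h.faithful fun b => ?_)
    rw [mul_smul, ← hg, inv_smul_smul]⟩
  obtain ⟨E, K, s, r, S, hcases⟩ := CfsgLib.Bender.Suzuki.exists_setting hS h.pair_mul
  obtain ⟨F₀, hF1, hF2, hF3, C, -⟩ := S.exists_efield
  haveI := hF2; haveI := hF3
  set a : G ⧸ H := ((1 : G) : G ⧸ H)
  have hHa : stabilizer G a = H := stabilizer_quotient H
  have hpairH : ∀ v ∈ CfsgLib.Bender.Suzuki.pairStab a t, v ∈ H := fun v hv => hHa ▸ hv.1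
  have hQc : ∀ v ∈ H, ∀ y, y ∈ Q ↔ v * y * v⁻¹ ∈ Q := fun v hv y => mem_normalizer_iff.1 (h.norm hv) y
  have hf2 := C.two_le
  have h4 : 4 ≤ 2 ^ C.f := Nat.pow_le_pow_right (show 0 < 2 by norm_num) hf2
  -- a generator of `K`
  haveI := S.cyclic
  obtain ⟨⟨k₀, hk₀⟩, hgen⟩ := IsCyclic.exists_monoid_generator (α := K)
  have hkord : orderOf k₀ = 2 ^ C.f - 1 := by
    rw [← Subgroup.orderOf_mk k₀ hk₀, orderOf_eq_card_of_forall_mem_powers hgen]
    have h1 : Nat.card K + 1 = Nat.card E := by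
      rw [← Finite.card_option]
      refine Nat.card_congr ((Equiv.optionCongr (Equiv.ofBijective
        (fun k : K => (⟨⟨k * s * (k : G)⁻¹, S.base.k_e k k.2 s S.base.s_mem⟩, fun e => S.base.s_ne (by
          have := congrArg Subtype.val e
          rwa [Subgroup.coe_one, conj_eq_one_iff] at this)⟩ : {e : E // e ≠ 1})) ⟨fun k k' e => ?_,
          fun e => ?_⟩)).trans (Equiv.optionSubtypeNe (1 : E)))
      · have h1 : (k : G) * s * (k : G)⁻¹ = k' * s * (k' : G)⁻¹ :=
          congrArg (fun x : {e : E // e ≠ 1} => ((x.1 : E) : G)) e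
        have he := S.base.k_e k k.2 s S.base.s_mem
        exact Subtype.ext ((S.base.reg _ he fun e1 => S.base.s_ne (conj_eq_one_iff.1 e1)).unique
          ⟨k.2, rfl⟩ ⟨k'.2, h1.symm⟩)
      · obtain ⟨k, ⟨hk, hke⟩, -⟩ := S.base.reg e.1 e.1.2 fun hh => e.2 (Subtype.ext hh)
        exact ⟨⟨k, hk⟩, Subtype.ext (Subtype.ext hke)⟩
    rw [C.card_E] at h1
    omega
  have hkp : k₀ ∈ CfsgLib.Bender.Suzuki.pairStab a t := ((S.mem_K k₀).1 hk₀).1
  have hkfree : ∀ (i : ℕ), ∀ y ∈ Q, y ∉ E → (k₀ ^ i * y * (k₀ ^ i)⁻¹)⁻¹ * y ∈ E → 2 ^ C.f - 1 ∣ i := by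
    intro i y hy hyE hfix
    rw [← hkord]
    refine orderOf_dvd_of_pow_eq_one ?_
    by_contra hne
    refine hyE (S.base.fpf _ (pow_mem hk₀ i) hne y hy ?_)
    have h1 := inv_mem hfix
    rw [mul_inv_rev, inv_inv] at h1
    have h2 := S.base.e_comm _ h1 y hy
    rwa [show k₀ ^ i * y * (k₀ ^ i)⁻¹ * y⁻¹ = y * (y⁻¹ * (k₀ ^ i * y * (k₀ ^ i)⁻¹)) * y⁻¹ by group, ← h2.eq,
      mul_inv_cancel_right]
  rcases hcases with hq | hq | hq
  · refine Or.inl fun y hy => ((S.mem_E y).1 ?_).2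
    rw [eq_of_le_of_card_ge S.base.le hq.le]
    exact hy
  · obtain ⟨F, i1, i2, i3, U, μ, hM⟩ := exists_mult S.mem_E S.base.q_sq S.base.e_comm (hpairH _ hkp)
      (hQc _ (hpairH _ hkp)) (d := C.f) (n := 2 ^ C.f - 1) (by omega) (by omega)
      (by rw [← hkord, pow_orderOf_eq_one]) (by rw [hq, C.card_E, pow_two]) hkfree
      (fun j hj hjd hdvd => by
        have h1 := Nat.le_of_dvd (by have := Nat.one_lt_two_pow hj.ne'; omega) hdvd
        have h2 := Nat.pow_lt_pow_right (a := 2) (by norm_num) hjd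
        omega)
      (fun e he hdvd => by
        rcases Nat.lt_or_ge e 2 with h1 | h1
        · -- four involutions and `|Q| = 16`
          have hf : C.f = 2 := by omega
          have hnc : ¬ ∀ a ∈ Q, ∀ b ∈ Q, a * b = b * a := fun hc => by
            have hcard := h.sq_eq_one_of_comm hc
            rw [hq, show Nat.card {x : Q // x * x = 1} = Nat.card E from Nat.card_congr
              { toFun := fun x => ⟨(x.1 : G), (S.mem_E _).2 ⟨x.1.2, congrArg Subtype.val x.2⟩⟩
                invFun := fun e => ⟨⟨e.1, S.base.le e.2⟩, Subtype.ext ((S.mem_E _).1 e.2).2⟩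
                left_inv := fun _ => rfl
                right_inv := fun _ => rfl }, C.card_E] at hcard
            nlinarith
          obtain ⟨P, hP⟩ : ∃ P : Sylow 2 Q, (P : Subgroup Q) = ⊤ :=
            ⟨⟨⊤, h.two.to_subgroup ⊤ |>.of_equiv (MulEquiv.refl _), fun _ hle => le_antisymm le_top hle⟩, rfl⟩
          have hsuz := (Cfsg.Agent.S1132.result hS h.pair_mul P).resolve_left fun hab => hnc fun a ha b hb =>
            congrArg (fun x : (P : Subgroup Q) => ((x : Q) : G))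
              (hab.is_comm.comm (⟨⟨a, ha⟩, hP ▸ mem_top _⟩ : (P : Subgroup Q)) ⟨⟨b, hb⟩, hP ▸ mem_top _⟩)
          have hP' : Nat.card (P : Subgroup Q) = Nat.card Q := by rw [hP, card_top]
          have hZ : Nat.card (center (P : Subgroup Q)) = 2 ^ C.f := by
            rw [← C.card_E]
            obtain ⟨hinv, hz2⟩ := Cfsg.Agent.S1137.result hsuz
            refine Nat.card_congr
              { toFun := fun x => ⟨((x.1 : Q) : G), (S.mem_E _).2 ⟨x.1.1.2,
                  congrArg (fun z : (P : Subgroup Q) => ((z : Q) : G)) (hz2 x.1 x.2)⟩⟩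
                invFun := fun e => ⟨⟨⟨e.1, S.base.le e.2⟩, hP ▸ mem_top _⟩, mem_center_iff.2 fun b => Subtype.ext
                  (Subtype.ext (S.base.e_comm e e.2 b b.1.2).symm.eq)⟩
                left_inv := fun _ => rfl
                right_inv := fun _ => rfl }
          obtain ⟨F', i4, i5, φ, hF', hφ, hodd, -⟩ := Cfsg.Agent.S1139.result hsuz (by
            rw [hP', hq, C.card_E, hZ])
          rw [hZ, hf] at hF'
          have hfix : φ * φ = 1 := RingEquiv.ext fun x => by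
            by_contra hne
            have h0 : x ≠ 0 := fun e => hne (by simp [e])
            have h1 : x ≠ 1 := fun e => hne (by simp [e])
            have h2 : φ x ≠ x := fun e => hne (show φ (φ x) = x by rw [e, e])
            classical
            have a0 : φ x ≠ 0 := fun e => h0 (φ.injective (e.trans (map_zero φ).symm))
            have a1 : φ x ≠ 1 := fun e => h1 (φ.injective (e.trans (map_one φ).symm))
            have b0 : φ (φ x) ≠ 0 := fun e => a0 (φ.injective (e.trans (map_zero φ).symm))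
            have b1 : φ (φ x) ≠ 1 := fun e => a1 (φ.injective (e.trans (map_one φ).symm))
            have b2 : φ (φ x) ≠ φ x := fun e => h2 (φ.injective e)
            have b3 : φ (φ x) ≠ x := hne
            have hcard : ({0, 1, x, φ x, φ (φ x)} : Finset F').card = 5 := by
              rw [Finset.card_insert_of_notMem, Finset.card_insert_of_notMem, Finset.card_insert_of_notMem,
                Finset.card_insert_of_notMem, Finset.card_singleton] <;>
                simp [Ne.symm h0, Ne.symm h1, Ne.symm a0, Ne.symm a1, Ne.symm b0, Ne.symm b1, Ne.symm b2,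
                  Ne.symm b3, Ne.symm h2]
            have := hcard ▸ Finset.card_le_univ ({0, 1, x, φ x, φ (φ x)} : Finset F')
            rw [hF'] at this
            norm_num at this
          have h3 : orderOf φ ∣ 2 := orderOf_dvd_of_pow_eq_one (by rw [pow_two, hfix])
          rcases (Nat.dvd_prime Nat.prime_two).1 h3 with h4 | h4
          · exact hφ (orderOf_eq_one_iff.1 h4)
          · rw [h4] at hodd
            exact Nat.not_even_iff_odd.2 hodd even_two
        · have h2 := Nat.le_of_dvd (by positivity) hdvd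
          rw [← he, pow_mul', pow_two] at h2
          have h3 : 2 ^ 2 ≤ 2 ^ e := Nat.pow_le_pow_right (by norm_num) h1
          have h4 : 4 * 2 ^ e ≤ 2 ^ e * 2 ^ e := Nat.mul_le_mul_right _ h3
          omega)
    exact Or.inr ⟨E, F, i1, i2, i3, U, μ, hM⟩
  · have S3 := S.cubic hq
    have L := S3.lineFacts C.card_E
    obtain ⟨p, w, hw⟩ := L.exists_kernel S3
    have hcomm := S3.commute_w_K hw hk₀
    have hwp : w ^ p = 1 := by rw [← hw.order]; exact pow_orderOf_eq_one w
    have hp3 := hw.three_le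
    have hcop : Nat.Coprime p (2 ^ C.f - 1) := (Nat.Prime.coprime_iff_not_dvd hw.prime).2 fun hd => by
      have h1 := Nat.dvd_sub hw.dvd hd
      rw [show 2 ^ C.f + 1 - (2 ^ C.f - 1) = 2 by omega] at h1
      have := Nat.le_of_dvd (by norm_num) h1
      omega
    have hpow : ∀ i : ℕ, (k₀ * w) ^ i = k₀ ^ i * w ^ i := fun i => hcomm.symm.mul_pow i
    have hkn : k₀ ^ (2 ^ C.f - 1) = 1 := by rw [← hkord, pow_orderOf_eq_one]
    have hcH := mul_mem (hpairH _ hkp) (hpairH _ hw.mem.1)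
    obtain ⟨F, i1, i2, i3, U, μ, hM⟩ := exists_mult S.mem_E S.base.q_sq S.base.e_comm hcH
      (hQc _ hcH) (d := 2 * C.f) (n := (2 ^ C.f - 1) * p) (by omega)
      (le_trans hp3 (Nat.le_mul_of_pos_left p (by omega)))
      (by rw [hpow, pow_mul, hkn, one_pow, one_mul, mul_comm, pow_mul, hwp, one_pow])
      (by rw [hq, C.card_E]; ring)
      (fun i y hy hyE hfix => by
        have key : ∀ m : ℕ, ((k₀ * w) ^ (i * m) * y * ((k₀ * w) ^ (i * m))⁻¹)⁻¹ * y ∈ E := by
          intro m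
          induction m with
          | zero => simp
          | succ m ih =>
            set g := (k₀ * w) ^ (i * m) with hg
            set v := (k₀ * w) ^ i with hv
            rw [show (k₀ * w) ^ (i * (m + 1)) = v * g by rw [hg, hv, ← pow_add]; congr 1; ring]
            have hvp : v ∈ CfsgLib.Bender.Suzuki.pairStab a t := pow_mem (mul_mem hkp hw.mem.1) i
            rw [show (v * g * y * (v * g)⁻¹)⁻¹ * y = v * ((g * y * g⁻¹)⁻¹ * y) * v⁻¹ * ((v * y * v⁻¹)⁻¹ * y) by
              group]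
            exact mul_mem (S.conj_E hvp ih) hfix
        -- the power in `K`
        have hki : 2 ^ C.f - 1 ∣ i := by
          have h1 := key p
          rw [hpow, show w ^ (i * p) = 1 by rw [mul_comm, pow_mul, hwp, one_pow], mul_one] at h1
          exact hcop.symm.dvd_of_dvd_mul_right (hkfree _ y hy hyE h1)
        refine Nat.Coprime.mul_dvd_of_dvd_of_dvd hcop.symm hki ?_
        obtain ⟨e, rfl⟩ := hki
        rw [hpow, pow_mul, hkn, one_pow, one_mul] at hfix
        by_contra hpi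
        set m := (2 ^ C.f - 1) * e
        set v := w ^ m with hv
        have hvo : orderOf v = p := by
          rw [hv, Nat.Coprime.orderOf_pow ?_, hw.order]
          rw [hw.order]
          exact (Nat.Prime.coprime_iff_not_dvd hw.prime).2 hpi
        have hvm : v ∈ CfsgLib.Bender.Suzuki.lineKer a t E := pow_mem hw.mem m
        -- `v` centralizes `y`
        set z := (v * y * v⁻¹)⁻¹ * y with hz
        have hvy : v * y * v⁻¹ = y * z := by
          have h2 := S.base.e_comm _ (inv_mem hfix) y hy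
          have h3 : v * y * v⁻¹ = y * z⁻¹ := by rw [hz]; group
          rw [h3, inv_eq_of_mul_eq_one_right (S.base.e_sq z hfix)]
        have hzv : v * z * v⁻¹ = z := by
          rw [← mem_centralizer_iff.1 hvm.2 z hfix, mul_inv_cancel_right]
        have hvk : ∀ k : ℕ, v ^ k * y * (v ^ k)⁻¹ = y * z ^ k := by
          intro k
          induction k with
          | zero => simp
          | succ k ih =>
            calc v ^ (k + 1) * y * (v ^ (k + 1))⁻¹ = v * (v ^ k * y * (v ^ k)⁻¹) * v⁻¹ := by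
                  rw [pow_succ']; group
              _ = v * y * v⁻¹ * (v * z * v⁻¹) ^ k := by rw [ih, conj_pow]; group
              _ = y * z ^ (k + 1) := by rw [hzv, hvy, pow_succ', mul_assoc]
        have hz1 : z = 1 := by
          have h2 := hvk p
          rw [← hvo, pow_orderOf_eq_one, one_mul, inv_one, mul_one, hvo, left_eq_mul] at h2
          obtain ⟨q, hq'⟩ := hw.prime.odd_of_ne_two (by omega)
          rwa [hq', pow_succ, pow_mul, pow_two, S.base.e_sq z hfix, one_pow, one_mul] at h2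
        rw [hz1, mul_one] at hvy
        refine L.ker_free v hvm (fun e1 => by rw [e1, orderOf_one] at hvo; omega) (y • t • a)
          (S3.not_mem_baseLine hy hyE) ?_
        rw [← mul_smul, show v * y = y * v from mul_inv_eq_iff_eq_mul.1 hvy, mul_smul,
          L.ker_fix v hvm (t • a) (Or.inr ⟨1, one_mem E, one_smul _ _⟩)])
      hw.irreducible
      (fun e he hdvd => by
        have he' : e = C.f := by omega
        subst he'
        have h1 := Nat.dvd_sub (((dvd_mul_right _ p).trans hdvd)) (dvd_refl (2 ^ C.f - 1))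
        rw [show 2 ^ C.f + 1 - (2 ^ C.f - 1) = 2 by omega] at h1
        have := Nat.le_of_dvd (by norm_num) h1
        omega)
    exact Or.inr ⟨E, F, i1, i2, i3, U, μ, hM⟩

/-- **Invariant pairings vanish.** -/
theorem noForm_of_data {H Q : Subgroup G} (h : Shape.Data H Q) {A : Type*} [CommGroup A] (β : G → G → A)
    (hl : ∀ u ∈ Q, ∀ v ∈ Q, ∀ w ∈ Q, β (u * v) w = β u w * β v w)
    (hr : ∀ u ∈ Q, ∀ v ∈ Q, ∀ w ∈ Q, β u (v * w) = β u v * β u w)
    (hinvol : ∀ e ∈ Q, e * e = 1 → ∀ v ∈ Q, β e v = 1) (halt : ∀ v ∈ Q, β v v = 1)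
    (hinv : ∀ a ∈ H, ∀ u ∈ Q, ∀ v ∈ Q, β (a * u * a⁻¹) (a * v * a⁻¹) = β u v) :
    ∀ u ∈ Q, ∀ v ∈ Q, β u v = 1 := by
  rcases exists_mult_of_data h with hel | ⟨E, F, _, _, _, U, μ, hM⟩
  · exact fun u hu v hv => hinvol u hu (hel u hu) v hv
  have hinvol' : ∀ e ∈ Q, e * e = 1 → ∀ v ∈ Q, β v e = 1 := fun e he he2 v hv => by
    have h1 := halt (e * v) (mul_mem he hv)
    rwa [hl e he v hv (e * v) (mul_mem he hv), hinvol e he he2 _ (mul_mem he hv), one_mul,
      hr v hv e he v hv, halt v hv, mul_one] at h1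
  choose sec hsecQ hsec using hM.surj
  have hclass : ∀ u ∈ Q, ∀ v ∈ Q, β (sec (U u)) (sec (U v)) = β u v := by
    have hE' : ∀ u ∈ Q, ∃ e ∈ Q, e * e = 1 ∧ sec (U u) = u * e := fun u hu => by
      have h0 : U 1 = 0 := (hM.zero_iff 1 (one_mem Q)).2 ((hM.mem_E 1).2 ⟨one_mem Q, one_mul 1⟩)
      have hneg : U u⁻¹ = U u := by
        have h1 := hM.mul u hu u⁻¹ (inv_mem hu)
        rw [mul_inv_cancel, h0, eq_comm, CharTwo.add_eq_zero] at h1
        exact h1.symm
      have h2 : u⁻¹ * sec (U u) ∈ E := (hM.zero_iff _ (mul_mem (inv_mem hu) (hsecQ _))).1 (by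
        rw [hM.mul _ (inv_mem hu) _ (hsecQ _), hneg, hsec, CharTwo.add_self_eq_zero])
      exact ⟨_, ((hM.mem_E _).1 h2).1, ((hM.mem_E _).1 h2).2, (mul_inv_cancel_left _ _).symm⟩
    intro u hu v hv
    obtain ⟨e, he, he2, h1⟩ := hE' u hu
    obtain ⟨f, hf, hf2, h2⟩ := hE' v hv
    rw [h1, h2, hl u hu e he _ (mul_mem hv hf), hinvol e he he2 _ (mul_mem hv hf), mul_one,
      hr u hu v hv f hf, hinvol' f hf hf2 u hu, mul_one]
  have key := pairing_trivial (F := F) (fun x y => β (sec x) (sec y))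
    (fun x x' y => by
      rw [show x + x' = U (sec x * sec x') by rw [hM.mul _ (hsecQ x) _ (hsecQ x'), hsec, hsec]]
      conv_lhs => rw [← hsec y]
      rw [hclass _ (mul_mem (hsecQ x) (hsecQ x')) _ (hsecQ y), hl _ (hsecQ x) _ (hsecQ x') _ (hsecQ y)])
    (fun x y y' => by
      rw [show y + y' = U (sec y * sec y') by rw [hM.mul _ (hsecQ y) _ (hsecQ y'), hsec, hsec]]
      conv_lhs => rw [← hsec x]
      rw [hclass _ (hsecQ x) _ (mul_mem (hsecQ y) (hsecQ y')), hr _ (hsecQ x) _ (hsecQ y) _ (hsecQ y')])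
    μ hM.irr
    (fun x y => by
      obtain ⟨c, hc, hconj⟩ := hM.conj
      obtain ⟨h1, h2⟩ := hconj _ (hsecQ x)
      obtain ⟨h3, h4⟩ := hconj _ (hsecQ y)
      rw [hsec] at h2 h4
      rw [← h2, ← h4, hclass _ h1 _ h3, hinv c hc _ (hsecQ x) _ (hsecQ y)])
    hM.not_one
  exact fun u hu v hv => (hclass u hu v hv).symm.trans (key (U u) (U v))

/-- **An invariant subgroup holding the involutions and one further element is everything.** -/
theorem eq_of_invariant {H Q R : Subgroup G} (h : Shape.Data H Q) (hle : R ≤ Q)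
    (hinv : ∀ a ∈ H, ∀ v ∈ R, a * v * a⁻¹ ∈ R) (hinvol : ∀ e ∈ Q, e * e = 1 → e ∈ R)
    (hR : ∃ v ∈ R, v * v ≠ 1) : R = Q := by
  rcases exists_mult_of_data h with hel | ⟨E, F, _, _, _, U, μ, hM⟩
  · obtain ⟨v, hv, hv2⟩ := hR
    exact absurd (hel v (hle hv)) hv2
  have h0 : U 1 = 0 := (hM.zero_iff 1 (one_mem Q)).2 ((hM.mem_E 1).2 ⟨one_mem Q, one_mul 1⟩)
  let W : AddSubgroup F :=
    { carrier := {x | ∃ v ∈ R, U v = x}
      zero_mem' := ⟨1, one_mem R, h0⟩
      add_mem' := fun {x y} ⟨v, hv, hvx⟩ ⟨w, hw, hwy⟩ => ⟨v * w, mul_mem hv hw, by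
        rw [hM.mul v (hle hv) w (hle hw), hvx, hwy]⟩
      neg_mem' := fun {x} hx => by rw [CharTwo.neg_eq]; exact hx }
  rcases hM.irr W (fun x ⟨v, hv, hvx⟩ => by
    obtain ⟨c, hc, hconj⟩ := hM.conj
    exact ⟨_, hinv c hc v hv, by rw [(hconj v (hle hv)).2, hvx]⟩) with hW | hW
  · obtain ⟨v, hv, hv2⟩ := hR
    have h1 : U v ∈ W := ⟨v, hv, rfl⟩
    rw [hW, AddSubgroup.mem_bot] at h1
    exact absurd ((hM.mem_E v).1 ((hM.zero_iff v (hle hv)).1 h1)).2 hv2
  · refine le_antisymm hle fun y hy => ?_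
    obtain ⟨v, hv, hvy⟩ : U y ∈ W := hW ▸ AddSubgroup.mem_top _
    have h1 : v⁻¹ * y ∈ E := by
      rw [← hM.zero_iff _ (mul_mem (inv_mem (hle hv)) hy), hM.mul _ (inv_mem (hle hv)) _ hy]
      have h2 := hM.mul v (hle hv) v⁻¹ (inv_mem (hle hv))
      rw [mul_inv_cancel, h0, eq_comm, CharTwo.add_eq_zero] at h2
      rw [← h2, hvy, CharTwo.add_self_eq_zero]
    have h2 := (hM.mem_E _).1 h1
    simpa using mul_mem hv (hinvol _ h2.1 h2.2)

end CfsgLib.SECrit.Closure
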