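import Cfsg.Agent.Lib.Invol.SECriterion.Closure.Transfer
import Cfsg.Agent.Lib.Invol.SECriterion.Closure.Model
import Cfsg.Agent.Lib.Invol.StronglyEmbeddedOrbits

/-!
# The embedding for a strongly closed subgroup with two involutions
-/

set_option autoImplicit false
set_option linter.style.haveILetI false

namespace CfsgLib.SECrit.Closure

open Subgroup CfsgLib.Invol

universe u

variable {G : Type u} [Group G] [Finite G] {T : Sylow 2 G} {S H : Subgroup G}

/-- The setting passes to a quotient by a normal subgroup of `H` meeting `S` trivially. -/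
theorem SCSet.image (h : SCSet T S H) (W : Subgroup G) [W.Normal] (hWH : W ≤ H) (hSW : S ⊓ W = ⊥) :
    ∃ T' : Sylow 2 (G ⧸ W), (T' : Subgroup (G ⧸ W)) = (T : Subgroup G).map (QuotientGroup.mk' W) ∧
      SCSet T' (S.map (QuotientGroup.mk' W)) (H.map (QuotientGroup.mk' W)) := by
  haveI : Fact (Nat.Prime 2) := ⟨Nat.prime_two⟩
  set π := QuotientGroup.mk' W with hπ
  have hsurj : Function.Surjective π := QuotientGroup.mk'_surjective W
  have hker : π.ker ≤ H := by rw [hπ, QuotientGroup.ker_mk']; exact hWH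
  have hmem : ∀ g : G, π g ∈ H.map π ↔ g ∈ H := fun g => by rw [← mem_comap, comap_map_eq_self hker]
  have hinj : ∀ s ∈ S, π s = 1 → s = 1 := fun s hs e =>
    mem_bot.1 (hSW ▸ mem_inf.2 ⟨hs, (QuotientGroup.eq_one_iff s).1 e⟩)
  obtain ⟨z, hzS, hc⟩ := h.exists_crit
  refine ⟨T.mapSurjective hsurj, Sylow.coe_mapSurjective hsurj T, ⟨?_, ?_, ?_, ?_, ?_⟩⟩
  · exact fun e => invol_ne_one hc.invol (hinj z hzS (mem_bot.1 (e ▸ mem_map_of_mem π hzS)))
  · intro e
    refine h.ne_top ?_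
    rw [← comap_map_eq_self hker, e, comap_top]
  · rw [Sylow.coe_mapSurjective hsurj T]
    exact Cfsg.Agent.S1250.result T S h.closed W
  · rintro _ ⟨s, hs, rfl⟩ hne x hx
    obtain ⟨g, rfl⟩ := hsurj x
    rw [hmem]
    refine h.fuse hs (fun e => hne (by rw [e, map_one])) ((hmem _).1 ?_)
    rw [map_mul, map_mul, map_inv, mem_centralizer_singleton_iff.1 hx, mul_inv_cancel_right]
    exact mem_map_of_mem π (h.le hs)
  · intro x hx
    obtain ⟨g, rfl⟩ := hsurj x
    rw [hmem]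
    refine hc.fuse g ((hmem _).1 ?_)
    rw [Sylow.coe_mapSurjective hsurj T] at hx
    rw [map_mul, map_mul, map_inv]
    exact map_mono (f := π) h.sylow_le ((mem_normalizer_iff.1 hx _).1 (mem_map_of_mem π (h.closed.1 hzS)))

section CoreFree

variable {z : G} (h : SCSet T S H) (hzS : z ∈ S) (hzo : orderOf z = 2)
  (hse : Cfsg.IsStronglyEmbedded (H.subgroupOf (normalClosure ({z} : Set G))))
include h hzS hzo hse

theorem exists_eq_mul (g : G) : ∃ l ∈ normalClosure ({z} : Set G), ∃ n ∈ H, g = l * n := by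
  set L := normalClosure ({z} : Set G)
  have hzL : z ∈ L := subset_normalClosure (Set.mem_singleton z)
  have hL : g * z * g⁻¹ ∈ L := normalClosure_normal.conj_mem z hzL g
  obtain ⟨l, hl⟩ := isConj_iff.1 (exists_conj_fixing hse (i := (⟨z, hzL⟩ : L)) (w := ⟨_, hL⟩)
    (by rw [Subgroup.orderOf_mk]; exact hzo) (by rw [Subgroup.orderOf_mk]; exact invol_conj hzo g))
  have hl' : (l : G) * z * (l : G)⁻¹ = g * z * g⁻¹ := congrArg Subtype.val hl
  refine ⟨l, l.2, (l : G)⁻¹ * g, h.fuse hzS (invol_ne_one hzo) ?_, by rw [mul_inv_cancel_left]⟩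
  have : (l : G)⁻¹ * g * z * ((l : G)⁻¹ * g)⁻¹ = z := by
    rw [show (l : G)⁻¹ * g * z * ((l : G)⁻¹ * g)⁻¹ = (l : G)⁻¹ * (g * z * g⁻¹) * l by group, ← hl']
    group
  rw [this]
  exact h.le hzS

theorem core_subgroupOf (hcore : H.normalCore = ⊥) :
    (H.subgroupOf (normalClosure ({z} : Set G))).normalCore = ⊥ := by
  set L := normalClosure ({z} : Set G)
  rw [eq_bot_iff]
  intro c hc
  have hmem : (c : G) ∈ H.normalCore := by
    intro g
    obtain ⟨l, hl, n, hn, he⟩ := exists_eq_mul h hzS hzo hse g⁻¹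
    have e1 : g * (c : G) * g⁻¹ = n⁻¹ * ((l⁻¹ : G) * c * l) * n := by
      rw [show g = n⁻¹ * l⁻¹ by rw [← mul_inv_rev, ← he, inv_inv]]; group
    rw [e1]
    refine mul_mem (mul_mem (inv_mem hn) ?_) hn
    have h1 : (⟨l, hl⟩ : L)⁻¹ * c * ((⟨l, hl⟩ : L)⁻¹)⁻¹ ∈ H.subgroupOf L := hc _
    simpa [mem_subgroupOf] using h1
  rw [hcore, mem_bot] at hmem
  exact mem_bot.2 (Subtype.ext hmem)

/-- The involutions of `S` lie in the closure of one of them. -/
theorem invol_mem_closure {d : G} (hd : d ∈ S) (hdo : orderOf d = 2) : d ∈ normalClosure ({z} : Set G) := by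
  set L := normalClosure ({z} : Set G) with hL
  haveI hLn : L.Normal := normalClosure_normal
  have hzL : z ∈ L := subset_normalClosure (Set.mem_singleton z)
  by_contra hdL
  obtain ⟨g, hg⟩ : ∃ g : G, g ∉ H := by
    by_contra hh
    push Not at hh
    exact h.ne_top (eq_top_iff.2 fun g _ => hh g)
  set e := g * z * g⁻¹ with he
  have heo : orderOf e = 2 := invol_conj hzo g
  have heL : e ∈ L := hLn.conj_mem z hzL g
  rcases Nat.even_or_odd (orderOf (d * e)) with heven | hodd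
  swap
  · obtain ⟨x, hx⟩ := isConj_iff.1 (Invol.isConj_of_odd hdo heo hodd).symm
    exact hdL (hx ▸ hLn.conj_mem e heL x)
  set m := orderOf (d * e) / 2 with hm
  set c := (d * e) ^ m with hc
  have hco : orderOf c = 2 := orderOf_pow_half heven
  have hcd : Commute c d := commute_pow_half (invol_conj_mul hdo heo) heven
  have hce : Commute c e := commute_pow_half (invol_conj_mul' hdo heo) heven
  have hcH : c ∈ H := h.cent d hd (invol_ne_one hdo) (mem_centralizer_singleton_iff.2 hcd.eq)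
  have hcg : g⁻¹ * c * g ∈ H := h.cent z hzS (invol_ne_one hzo) (mem_centralizer_singleton_iff.2 (by
    calc g⁻¹ * c * g * z = g⁻¹ * (c * e) * g := by rw [he]; group
      _ = g⁻¹ * (e * c) * g := by rw [hce.eq]
      _ = z * (g⁻¹ * c * g) := by rw [he]; group))
  have hpar : (QuotientGroup.mk' L) c = (QuotientGroup.mk' L) d ^ m := by
    rw [hc, map_pow, map_mul, show (QuotientGroup.mk' L) e = 1 from (QuotientGroup.eq_one_iff e).2 heL, mul_one]
  rcases Nat.even_or_odd' m with ⟨j, hj | hj⟩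
  · -- `c` lies in `L`
    have hcL : c ∈ L := (QuotientGroup.eq_one_iff c).1 (show (QuotientGroup.mk' L) c = 1 by
      rw [hpar, hj, pow_mul, ← map_pow, pow_two, invol_mul_self hdo, map_one, one_pow])
    obtain ⟨l, hl, n, hn, rfl⟩ := exists_eq_mul h hzS hzo hse g
    have h1 : l⁻¹ * c * l ∈ H := by
      have := mul_mem (mul_mem hn hcg) (inv_mem hn)
      rwa [show n * ((l * n)⁻¹ * c * (l * n)) * n⁻¹ = l⁻¹ * c * l by group] at this
    have h2 := mem_of_subgroupOf hse hcL hcH hco (inv_mem hl) (by rw [inv_inv]; exact h1)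
    exact hg (mul_mem (by simpa using h2) hn)
  · -- `d c` is conjugate to `e`
    have hdcH : d * c ∈ H := mul_mem (h.le hd) hcH
    set k := (d * e) ^ (-(j : ℤ)) * g with hk
    have e1 : d * c = k * z * k⁻¹ := by
      rw [hc, hj, ← zpow_natCast]
      have key : ∀ a : G, a ^ (-(j : ℤ)) * (d * a) * (a ^ (-(j : ℤ)))⁻¹
          = a ^ (-(j : ℤ)) * d * (a ^ (-(j : ℤ)))⁻¹ * a := fun a => by group
      have hed : e = d * (d * e) := by rw [← mul_assoc, invol_mul_self hdo, one_mul]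
      have : k * z * k⁻¹ = (d * e) ^ (-(j : ℤ)) * e * ((d * e) ^ (-(j : ℤ)))⁻¹ := by rw [hk, he]; group
      rw [this]
      conv_rhs => arg 1; arg 2; rw [hed]
      rw [key, zpow_conj_invol hdo heo, mul_assoc, ← zpow_add_one]
      congr 2; push_cast; ring
    have hkH : k ∈ H := h.fuse hzS (invol_ne_one hzo) (by rw [← e1]; exact hdcH)
    have hdc : Commute d (d * c) := (Commute.refl d).mul_right hcd.symm
    have hne : d ≠ d * c := fun e2 => invol_ne_one hco (by simpa using e2.symm)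
    have hdco : orderOf (d * c) = 2 := e1 ▸ invol_conj hzo k
    obtain ⟨x, hx, hxT⟩ := h.exists_conj (P := Subgroup.closure {d, d * c}) (IsPGroup.of_card (n := 2) (by
      haveI := CfsgLib.Invol.isKleinFour_closure_pair hdo hdco hne hdc
      rw [IsKleinFour.card_four]; norm_num))
      ((closure_le _).2 (by rintro y (rfl | rfl); exacts [h.le hd, hdcH]))
    have h1 := h.closed_conj hd (hxT d (subset_closure (Set.mem_insert _ _)))
    have h2 : x * (d * c) * x⁻¹ ∈ S := by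
      have h3 := hxT (d * c) (subset_closure (Set.mem_insert_of_mem _ rfl))
      rw [e1, show x * (k * z * k⁻¹) * x⁻¹ = x * k * z * (x * k)⁻¹ by group] at h3 ⊢
      exact h.closed_conj hzS h3
    have hcS : x * c * x⁻¹ ∈ S := by
      have := mul_mem (inv_mem h1) h2
      rwa [show (x * d * x⁻¹)⁻¹ * (x * (d * c) * x⁻¹) = x * c * x⁻¹ by group] at this
    have h4 := h.fuse hcS (invol_ne_one (invol_conj hco x)) (g := g⁻¹ * x⁻¹) (by
      rw [show g⁻¹ * x⁻¹ * (x * c * x⁻¹) * (g⁻¹ * x⁻¹)⁻¹ = g⁻¹ * c * g by group]; exact hcg)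
    exact hg (by simpa [mul_assoc] using inv_mem (mul_mem h4 hx))

/-- **The regular two-group above `S`.** -/
theorem exists_top (hcore : H.normalCore = ⊥) (hp : TwoInvol S) :
    ∃ Q : Subgroup G, Top T S H (normalClosure ({z} : Set G)) Q ∧
      Odd (Q.subgroupOf (normalClosure ({z} : Set G))).index ∧
      NoForm (H ⊓ normalClosure ({z} : Set G)) Q ∧
      ((∀ v ∈ Q, v ∈ S) ∨ ∀ s ∈ S, s * s = 1) := by
  classical
  haveI : Fact (Nat.Prime 2) := ⟨Nat.prime_two⟩
  set L := normalClosure ({z} : Set G) with hL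
  haveI hLn : L.Normal := normalClosure_normal
  have hzL : z ∈ L := subset_normalClosure (Set.mem_singleton z)
  obtain ⟨a, ha, b, hb, hao, hbo, hab⟩ := hp
  -- a central involution of `S` and another one
  obtain ⟨c, hc, hco, hcen⟩ : ∃ c ∈ S, orderOf c = 2 ∧ ∀ s ∈ S, Commute s c := by
    haveI : Group.IsNilpotent S := (T.2.to_le h.closed.1).isNilpotent
    obtain ⟨k, hk⟩ := ((T.2.to_le h.closed.1).to_subgroup (center S)).exists_card_eq
    haveI : Nontrivial S := ⟨⟨a, ha⟩, 1, fun e => invol_ne_one hao (congrArg Subtype.val e)⟩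
    have hk0 : k ≠ 0 := fun e => Group.IsNilpotent.center_ne_bot (G := S) (eq_bot_of_card_eq _ (by
      rw [hk, e, pow_zero]))
    obtain ⟨c, hc, hco⟩ := exists_invol_mem (H := center S) (by rw [hk]; exact Nat.even_pow.2 ⟨even_two, hk0⟩)
    exact ⟨c, c.2, by rw [Subgroup.orderOf_coe]; exact hco,
      fun s hs => congrArg Subtype.val (mem_center_iff.1 hc ⟨s, hs⟩)⟩
  obtain ⟨w, hw, hwo, hwc⟩ : ∃ w ∈ S, orderOf w = 2 ∧ w ≠ c := by
    by_cases e : a = c
    · exact ⟨b, hb, hbo, fun e' => hab (e.trans e'.symm)⟩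
    · exact ⟨a, ha, hao, e⟩
  have hcL := invol_mem_closure h hzS hzo hse hc hco
  have hwL := invol_mem_closure h hzS hzo hse hw hwo
  have hpair : CfsgLib.Bender.HasPair ↥L :=
    ⟨⟨w, hwL⟩, ⟨c, hcL⟩, by rw [Subgroup.orderOf_mk]; exact hwo, by rw [Subgroup.orderOf_mk]; exact hco,
      fun e => hwc (congrArg Subtype.val e), Subtype.ext (hcen w hw).eq⟩
  have hcoreL := core_subgroupOf h hzS hzo hse hcore
  obtain ⟨Q₀, hQle, hQn, hQ2, hreg⟩ := CfsgLib.Bender.Full.fullStatement ↥L (H.subgroupOf L) hse hcoreL hpair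
  have hD : Shape.Data (H.subgroupOf L) Q₀ := ⟨hse, hcoreL, hpair, hQle, hQn, hQ2, hreg⟩
  set Q := Q₀.map L.subtype with hQ
  have hQmem : ∀ {x : G}, x ∈ Q → ∃ hx : x ∈ L, (⟨x, hx⟩ : L) ∈ Q₀ := by
    rintro _ ⟨x, hx, rfl⟩; exact ⟨x.2, hx⟩
  have hQin : ∀ {x : G} (hx : x ∈ L), (⟨x, hx⟩ : L) ∈ Q₀ → x ∈ Q := fun hx hx' => ⟨_, hx', rfl⟩
  have hQH : Q ≤ H ⊓ L := fun x hx => by
    obtain ⟨hxL, hx'⟩ := hQmem hx
    exact ⟨hQle hx', hxL⟩
  have hQ2' : IsPGroup 2 Q := hQ2.map _
  have hmem2 : ∀ g ∈ H, g ∈ L → ∀ k : ℕ, g ^ 2 ^ k = 1 → g ∈ Q := fun g hg hgL k hk =>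
    hQin hgL (hD.mem_of_two (show (⟨g, hgL⟩ : L) ∈ H.subgroupOf L from hg) (k := k) (Subtype.ext hk))
  have hQnorm : ∀ x ∈ H, ∀ y ∈ Q, x * y * x⁻¹ ∈ Q := fun x hx y hy => by
    obtain ⟨k, hk⟩ := hQ2' ⟨y, hy⟩
    refine hmem2 _ (mul_mem (mul_mem hx (hQH hy).1) (inv_mem hx)) (hLn.conj_mem y (hQH hy).2 x) k ?_
    rw [conj_pow, show y ^ 2 ^ k = 1 from congrArg Subtype.val hk, mul_one, mul_inv_cancel]
  have hnorm : H ≤ normalizer (Q : Set G) := fun x hx => mem_normalizer_iff.2 fun y =>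
    ⟨hQnorm x hx y, fun hy => by simpa [mul_assoc] using hQnorm x⁻¹ (inv_mem hx) _ hy⟩
  have hQT : Q ≤ (T : Subgroup G) :=
    (T.3 (T.2.to_sup_of_normal_right' hQ2' (h.sylow_le.trans hnorm)) le_sup_left) ▸ le_sup_right
  obtain ⟨hsq, hcent⟩ := hD.sq_central
  have hzH : z ∈ H := h.le hzS
  have htrans : ∀ e ∈ Q, ∀ f ∈ Q, orderOf e = 2 → orderOf f = 2 → ∃ x ∈ H ⊓ L, x * e * x⁻¹ = f := by
    intro e he f hf heo hfo
    obtain ⟨x, hx⟩ := isConj_iff.1 (exists_conj_fixing hse (i := (⟨e, (hQH he).2⟩ : L)) (w := ⟨f, (hQH hf).2⟩)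
      (by rw [Subgroup.orderOf_mk]; exact heo) (by rw [Subgroup.orderOf_mk]; exact hfo))
    have hx' : (x : G) * e * (x : G)⁻¹ = f := congrArg Subtype.val hx
    exact ⟨x, ⟨mem_of_subgroupOf hse (hQH he).2 (hQH he).1 heo x.2 (hx' ▸ (hQH hf).1), x.2⟩, hx'⟩
  have hinQ : ∀ d ∈ S, orderOf d = 2 → d ∈ L → d ∈ Q := fun d hd hdo hdL =>
    hmem2 d (h.le hd) hdL 1 (by rw [pow_one, pow_two, invol_mul_self hdo])
  have htop : Top T S H L Q := by
    refine
      { normal := hLn
        sylow_le := h.sylow_le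
        closed := h.closed
        fuse := fun s hs hs1 g hg => h.fuse hs hs1 hg
        exists_out := by
          by_contra hh
          push Not at hh
          exact h.ne_top (eq_top_iff.2 fun g _ => hh g)
        le := hQH
        two := hQ2'
        norm := hnorm
        mem_two := hmem2
        exists_reg := ?_
        sq := ?_
        comm_sq := ?_
        central := ?_
        invol_mem := ?_
        invol_trans := htrans
        pair := ?_ }
    · intro g k hg hk
      obtain ⟨l, hl, n, hn, rfl⟩ := exists_eq_mul h hzS hzo hse g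
      obtain ⟨l', hl', n', hn', rfl⟩ := exists_eq_mul h hzS hzo hse k
      have hlH : (⟨l, hl⟩ : L) ∉ H.subgroupOf L := fun e => hg (mul_mem (show l ∈ H from e) hn)
      have hlH' : (⟨l', hl'⟩ : L) ∉ H.subgroupOf L := fun e => hk (mul_mem (show l' ∈ H from e) hn')
      obtain ⟨x, ⟨hx, hxm⟩, -⟩ := hreg ⟨l, hl⟩ ⟨l', hl'⟩ hlH hlH'
      refine ⟨x, hQin x.2 hx, ?_⟩
      have h1 : l'⁻¹ * ((x : G) * l) ∈ H := hxm
      rw [show (l' * n')⁻¹ * ((x : G) * (l * n)) = n'⁻¹ * (l'⁻¹ * ((x : G) * l)) * n by group]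
      exact mul_mem (mul_mem (inv_mem hn') h1) hn
    · intro v hv
      obtain ⟨hvL, hv'⟩ := hQmem hv
      exact congrArg Subtype.val (hsq _ hv')
    · intro v hv w hw
      obtain ⟨hvL, hv'⟩ := hQmem hv
      obtain ⟨hwL, hw'⟩ := hQmem hw
      exact congrArg Subtype.val (hD.comm_sq hv' hw')
    · intro e he he2 v hv
      obtain ⟨heL, he'⟩ := hQmem he
      obtain ⟨hvL, hv'⟩ := hQmem hv
      exact congrArg Subtype.val (hcent _ he' (Subtype.ext he2) _ hv').eq
    · intro e he he2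
      by_cases he1 : e = 1
      · rw [he1]; exact one_mem S
      obtain ⟨x, hx, rfl⟩ := htrans z (hinQ z hzS hzo hzL) e he hzo (invol_iff.2 ⟨he2, he1⟩)
      exact h.closed_conj hzS (hQT he)
    · have hwQ := hinQ w hw hwo hwL
      have hcQ := hinQ c hc hco hcL
      exact Finite.one_lt_card_iff_nontrivial.2
        ⟨⟨w, hwQ, hwo⟩, ⟨c, hcQ, hco⟩, fun e => hwc (congrArg Subtype.val e)⟩
  refine ⟨Q, htop, ?_, ?_, ?_⟩
  · rw [hQ, show (Q₀.map L.subtype).subgroupOf L = Q₀ from comap_map_eq_self_of_injective L.subtype_injective Q₀]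
    obtain ⟨P, hP⟩ := hD.exists_sylow
    rw [← hP, ← Nat.not_even_iff_odd, even_iff_two_dvd]
    exact P.not_dvd_index
  · intro A _ β hl hr hinv0 halt hinv u hu v hv
    obtain ⟨huL, hu'⟩ := hQmem hu
    obtain ⟨hvL, hv'⟩ := hQmem hv
    exact noForm_of_data hD (fun x y : L => β x y)
      (fun x hx y hy t ht => hl _ (hQin x.2 hx) _ (hQin y.2 hy) _ (hQin t.2 ht))
      (fun x hx y hy t ht => hr _ (hQin x.2 hx) _ (hQin y.2 hy) _ (hQin t.2 ht))
      (fun e he he2 t ht => hinv0 _ (hQin e.2 he) (congrArg Subtype.val he2) _ (hQin t.2 ht))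
      (fun t ht => halt _ (hQin t.2 ht))
      (fun x hx y hy t ht => hinv _ ⟨hx, x.2⟩ _ (hQin y.2 hy) _ (hQin t.2 ht)) _ hu' _ hv'
  · by_contra hh
    push Not at hh
    obtain ⟨⟨v, hv, hvS⟩, s, hs, hs2⟩ := hh
    have hSQ := htop.le_Q
    have hR := eq_of_invariant hD (R := S.subgroupOf L)
      (fun x hx => (hQmem (hSQ hx)).choose_spec)
      (fun x hx u hu => h.closed_conj hu (hQT (hQnorm x hx u (hSQ hu))))
      (fun e he he2 => htop.invol_mem e (hQin e.2 he) (congrArg Subtype.val he2))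
      ⟨⟨s, (hQH (hSQ hs)).2⟩, hs, fun e => hs2 (congrArg Subtype.val e)⟩
    obtain ⟨hvL, hv'⟩ := hQmem hv
    rw [← hR] at hv'
    exact hvS hv'


end CoreFree

variable {z : G}

/-- The Sylow subgroup of the normal closure is `S`, or has the elementary abelian `S` as its involutions. -/
def SylowClause (T S : Subgroup G) : Prop :=
  (∀ x ∈ T, x ∈ normalClosure (S : Set G) → x ∈ S) ∨
    ((∀ s ∈ S, s * s = 1) ∧ ∀ x ∈ T, x ∈ normalClosure (S : Set G) → x * x = 1 → x ∈ S)

/-- **Everything about the reduced setting.** -/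
theorem SCSet.reduced_facts (hCT : CritThm.{u}) (h : SCSet T S H) (hO : Cfsg.oddCore ↥H.normalCore = ⊥)
    (hp : TwoInvol S) :
    H.normalCore ⊓ normalClosure (S : Set G) = ⊥ ∧ Emb S H ∧ SylowClause (T : Subgroup G) S := by
  classical
  haveI := normalCore_normal H
  set C := H.normalCore with hC
  set π := QuotientGroup.mk' C with hπ
  obtain ⟨z, hzS, hc⟩ := h.exists_crit
  obtain ⟨hc1, hne1, hcore1⟩ := hc.quotient h.ne_top
  obtain ⟨T', hT', h'⟩ := h.image C H.normalCore_le h.inf_core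
  have hker : π.ker ≤ H := by rw [hπ, QuotientGroup.ker_mk']; exact H.normalCore_le
  have hzo : orderOf (π z) = 2 := hc1.invol
  have hzS' : π z ∈ S.map π := mem_map_of_mem π hzS
  have hse := hCT (G ⧸ C) (H.map π) (π z) hc1 hne1 hcore1
  obtain ⟨Q, htop, hidx, hform, hshape⟩ := exists_top h' hzS' hzo hse hcore1
    (hp.map π fun s hs e => mem_bot.1 (h.inf_core ▸ mem_inf.2 ⟨hs, (QuotientGroup.eq_one_iff s).1 e⟩))
  have hX : (normalClosure (S : Set G)).map π = normalClosure ({π z} : Set (G ⧸ C)) := by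
    rw [map_normalClosure _ π (QuotientGroup.mk'_surjective C), ← coe_map]
    refine le_antisymm ?_ ?_
    · haveI := htop.normal
      exact normalClosure_le_normal fun s hs => (htop.le (htop.le_Q hs)).2
    · exact normalClosure_mono (Set.singleton_subset_iff.2 hzS')
  rw [← hX] at htop hidx hform hse
  have hbot := h.core_inf_eq_bot hO T' hT' htop hidx hform
  have hinj : ∀ x ∈ normalClosure (S : Set G), ∀ y ∈ normalClosure (S : Set G), π x = π y → x = y :=
    fun x hx y hy e => inv_mul_eq_one.1 (mem_bot.1 (hbot ▸ mem_inf.2 ⟨(QuotientGroup.eq_one_iff _).1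
      (show π (x⁻¹ * y) = 1 by rw [map_mul, map_inv, e, inv_mul_cancel]), mul_mem (inv_mem hx) hy⟩))
  have hin : ∀ x ∈ (T : Subgroup G), x ∈ normalClosure (S : Set G) → π x ∈ Q := fun x hx hxX => by
    obtain ⟨k, hk⟩ := T.2 ⟨x, hx⟩
    exact htop.mem_two _ (mem_map_of_mem π (h.sylow_le hx)) (mem_map_of_mem π hxX) k (by
      rw [← map_pow, show x ^ 2 ^ k = 1 from congrArg Subtype.val hk, map_one])
  refine ⟨hbot, fun t g htX htH ht hgX hg => ?_, ?_⟩
  swap
  · rcases hshape with hs | hs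
    · refine Or.inl fun x hx hxX => ?_
      obtain ⟨s, hsS, hse⟩ := hs _ (hin x hx hxX)
      exact hinj s (subset_normalClosure hsS) x hxX hse ▸ hsS
    · refine Or.inr ⟨fun s hsS => ?_, fun x hx hxX hx2 => ?_⟩
      · exact hinj _ (mul_mem (subset_normalClosure hsS) (subset_normalClosure hsS)) 1 (one_mem _)
          (by rw [map_mul, hs _ (mem_map_of_mem π hsS), map_one])
      · obtain ⟨s, hsS, hse⟩ := htop.invol_mem _ (hin x hx hxX) (by rw [← map_mul, hx2, map_one])
        exact hinj s (subset_normalClosure hsS) x hxX hse ▸ hsS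
  have hto : orderOf (π t) = 2 := invol_iff.2 ⟨by rw [← map_mul, invol_mul_self ht, map_one], fun e =>
    invol_ne_one ht (mem_bot.1 (hbot ▸ mem_inf.2 ⟨(QuotientGroup.eq_one_iff t).1 e, htX⟩))⟩
  have h1 : π g ∈ H.map π := mem_of_subgroupOf hse (mem_map_of_mem π htX) (mem_map_of_mem π htH) hto
    (mem_map_of_mem π hgX) (by rw [← map_inv, ← map_mul, ← map_mul]; exact mem_map_of_mem π hg)
  rwa [← mem_comap, comap_map_eq_self hker] at h1

/-- **The embedding for two involutions in `S`.** -/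
theorem SCSet.emb (hCT : CritThm.{u}) (h : SCSet T S H) (hp : TwoInvol S) : Emb S H := by
  obtain ⟨W, _, T', -, -, h', hO', hp', hback⟩ := h.exists_reduced hp
  exact hback (h'.reduced_facts hCT hO' hp').2.1

/-- **The Sylow subgroup of the normal closure for two involutions in `S`.** -/
theorem SCSet.sylow_clause (hCT : CritThm.{u}) (h : SCSet T S H) (hp : TwoInvol S) :
    SylowClause (T : Subgroup G) S := by
  obtain ⟨W, _, T', hW, hT', h', hO', hp', -⟩ := h.exists_reduced hp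
  set π := QuotientGroup.mk' W
  have hinj : ∀ x ∈ (T : Subgroup G), ∀ y ∈ (T : Subgroup G), π x = π y → x = y := fun x hx y hy e => by
    obtain ⟨k, hk⟩ := T.2 ⟨x⁻¹ * y, mul_mem (inv_mem hx) hy⟩
    refine inv_mul_eq_one.1 (eq_one_of_odd_of_pow_two (k := k) (hW.of_dvd_nat (Subgroup.orderOf_dvd_natCard W
      ((QuotientGroup.eq_one_iff _).1 (show π (x⁻¹ * y) = 1 by rw [map_mul, map_inv, e, inv_mul_cancel]))))
      (congrArg Subtype.val hk))
  have hX : ∀ x ∈ normalClosure (S : Set G),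
      π x ∈ normalClosure ((S.map π : Subgroup (G ⧸ W)) : Set (G ⧸ W)) := fun x hx => by
    rw [coe_map, ← map_normalClosure _ π (QuotientGroup.mk'_surjective W)]
    exact mem_map_of_mem π hx
  have hT : ∀ x ∈ (T : Subgroup G), π x ∈ (T' : Subgroup (G ⧸ W)) := fun x hx => hT' ▸ mem_map_of_mem π hx
  rcases (h'.reduced_facts hCT hO' hp').2.2 with hs | ⟨hs1, hs2⟩
  · refine Or.inl fun x hx hxX => ?_
    obtain ⟨s, hsS, hse⟩ := hs _ (hT x hx) (hX x hxX)
    exact hinj s (h.closed.1 hsS) x hx hse ▸ hsS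
  · refine Or.inr ⟨fun s hsS => ?_, fun x hx hxX hx2 => ?_⟩
    · exact hinj _ (mul_mem (h.closed.1 hsS) (h.closed.1 hsS)) 1 (one_mem _)
        (by rw [map_mul, hs1 _ (mem_map_of_mem π hsS), map_one])
    · obtain ⟨s, hsS, hse⟩ := hs2 _ (hT x hx) (hX x hxX) (by rw [← map_mul, hx2, map_one])
      exact hinj s (h.closed.1 hsS) x hx hse ▸ hsS

end CfsgLib.SECrit.Closure
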