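import Mathlib.FieldTheory.Finite.Basic
import Mathlib.RingTheory.LittleWedderburn
import Mathlib.GroupTheory.PGroup
import Mathlib.Data.Nat.GCD.Basic
import Mathlib.Algebra.Algebra.ZMod
import Mathlib.Algebra.Field.Subfield.Basic

/-!
# Pairings invariant under a multiplication of big order

A finite field of characteristic two with an element `μ` lying in no proper subfield has no non-trivial
biadditive pairing invariant under `μ` unless some power `μ ^ (2 ^ j + 1)` is `1`.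
-/

set_option autoImplicit false
set_option linter.style.haveILetI false

namespace CfsgLib.SECrit.Closure

variable {F : Type*} [Field F] [Finite F]

/-- The order of `μ` generating the field divides no `2 ^ j + 1`. -/
theorem not_dvd_pow_add_one {d n : ℕ} (hd : 0 < d) (hn : 3 ≤ n) (hnd : n ∣ 2 ^ d - 1)
    (hirr : ∀ j, 0 < j → j < d → ¬ n ∣ 2 ^ j - 1) (hhalf : ∀ e, 2 * e = d → ¬ n ∣ 2 ^ e + 1) :
    ∀ j, ¬ n ∣ 2 ^ j + 1 := by
  intro j hj
  have h2j : n ∣ 2 ^ (2 * j) - 1 := by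
    refine hj.trans ⟨2 ^ j - 1, ?_⟩
    rw [← Nat.sq_sub_sq, one_pow, ← pow_mul, mul_comm j]
  have hg : n ∣ 2 ^ Nat.gcd (2 * j) d - 1 := by
    rw [← Nat.pow_sub_one_gcd_pow_sub_one]
    exact Nat.dvd_gcd h2j hnd
  have hgd : Nat.gcd (2 * j) d = d := by
    rcases (Nat.le_of_dvd hd (Nat.gcd_dvd_right (2 * j) d)).eq_or_lt with h | h
    · exact h
    · exact absurd hg (hirr _ (Nat.gcd_pos_of_pos_right _ hd) h)
  obtain ⟨m, hm⟩ := hgd ▸ Nat.gcd_dvd_left (2 * j) d
  have hone : ∀ k : ℕ, 2 ^ (d * k) ≡ 1 [MOD n] := fun k => by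
    have h1 : 1 ≡ 2 ^ d [MOD n] := (Nat.modEq_iff_dvd' (Nat.one_le_two_pow)).2 hnd
    simpa [pow_mul] using (h1.pow k).symm
  obtain ⟨e, rfl | rfl⟩ := Nat.even_or_odd' m
  · have hje : j = d * e := by rw [Nat.mul_left_comm] at hm; omega
    have h1 : 2 ^ j + 1 ≡ 1 + 1 [MOD n] := hje ▸ (hone e).add_right 1
    have : n ∣ 2 := (Nat.modEq_zero_iff_dvd.1 (h1.symm.trans (Nat.modEq_zero_iff_dvd.2 hj)))
    have := Nat.le_of_dvd (by norm_num) this
    omega
  · have hde : Even d := by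
      have : Even (d * (2 * e + 1)) := ⟨j, by omega⟩
      simpa [Nat.even_mul, parity_simps] using this
    obtain ⟨d', hd'⟩ := hde
    have hje : j = d * e + d' := by
      have : 2 * j = 2 * (d * e + d') := by rw [hm, hd']; ring
      omega
    refine hhalf d' (by omega) (Nat.modEq_zero_iff_dvd.1 ?_)
    refine Nat.ModEq.trans (Nat.ModEq.add_right 1 ?_) (Nat.modEq_zero_iff_dvd.2 hj)
    rw [hje, pow_add]
    simpa using ((hone e).symm.mul_right (2 ^ d'))

variable [CharP F 2]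

omit [CharP F 2] in
/-- An element lying in no proper subfield: the subgroups it keeps are trivial. -/
theorem bot_or_top_of_mul_mem {d n : ℕ} (hF : Nat.card F = 2 ^ d) {μ : F} (hμ : orderOf μ = n)
    (hn : 0 < n) (hirr : ∀ j, 0 < j → j < d → ¬ n ∣ 2 ^ j - 1) (W : AddSubgroup F)
    (hW : ∀ x ∈ W, μ * x ∈ W) : W = ⊥ ∨ W = ⊤ := by
  classical
  by_cases hbot : W = ⊥
  · exact Or.inl hbot
  refine Or.inr (eq_top_iff.2 fun y _ => ?_)
  obtain ⟨x, hx, hx0⟩ : ∃ x ∈ W, x ≠ 0 := by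
    by_contra hh
    push Not at hh
    exact hbot ((AddSubgroup.eq_bot_iff_forall _).2 hh)
  let R : Subring F :=
    { carrier := {r | ∀ w ∈ W, r * w ∈ W}
      mul_mem' := fun {a b} ha hb w hw => by rw [mul_assoc]; exact ha _ (hb w hw)
      one_mem' := fun w hw => by rw [one_mul]; exact hw
      add_mem' := fun {a b} ha hb w hw => by rw [add_mul]; exact add_mem (ha w hw) (hb w hw)
      zero_mem' := fun w _ => by rw [zero_mul]; exact zero_mem W
      neg_mem' := fun {a} ha w hw => by rw [neg_mul]; exact neg_mem (ha w hw) }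
  letI := Fintype.ofFinite R
  letI : Field R := Fintype.fieldOfDomain R
  have hcard : Nat.card R.toAddSubgroup ∣ 2 ^ d := hF ▸ AddSubgroup.card_addSubgroup_dvd_card _
  obtain ⟨j, hj, hjR⟩ := (Nat.dvd_prime_pow Nat.prime_two).1 hcard
  have hμR : μ ∈ R := hW
  have hμ0 : (⟨μ, hμR⟩ : R) ≠ 0 := fun e => by
    have h0 : μ = 0 := congrArg Subtype.val e
    rw [h0, orderOf_zero] at hμ
    omega
  have hnR : n ∣ 2 ^ j - 1 := by
    rw [← hμ, ← hjR, show Nat.card R.toAddSubgroup = Nat.card R from rfl, Nat.card_eq_fintype_card]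
    exact orderOf_dvd_of_pow_eq_one (congrArg Subtype.val (FiniteField.pow_card_sub_one_eq_one _ hμ0) :)
  have hj0 : 0 < j := by
    refine Nat.pos_of_ne_zero fun e => ?_
    rw [e, pow_zero] at hjR
    have h1 := (Nat.card_eq_one_iff_unique.1 hjR).1.elim (⟨1, R.one_mem⟩ : R.toAddSubgroup) ⟨0, R.zero_mem⟩
    exact one_ne_zero (congrArg Subtype.val h1)
  have hjd : j = d := by
    rcases hj.eq_or_lt with h | h
    · exact h
    · exact absurd hnR (hirr j hj0 h)
  have htop : R.toAddSubgroup = ⊤ := AddSubgroup.eq_top_of_card_eq _ (by rw [hjR, hjd, hF])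
  have : y * x⁻¹ ∈ R.toAddSubgroup := htop ▸ AddSubgroup.mem_top _
  simpa [hx0] using this x hx

/-- **No invariant pairing.** -/
theorem pairing_trivial {A : Type*} [CommGroup A] (B : F → F → A)
    (hl : ∀ u u' v, B (u + u') v = B u v * B u' v) (hr : ∀ u v v', B u (v + v') = B u v * B u v')
    (μ : F) (hirr : ∀ W : AddSubgroup F, (∀ x ∈ W, μ * x ∈ W) → W = ⊥ ∨ W = ⊤)
    (hinv : ∀ u v, B (μ * u) (μ * v) = B u v) (hμ : ∀ j : ℕ, μ ^ (2 ^ j + 1) ≠ 1) :
    ∀ u v, B u v = 1 := by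
  classical
  by_contra hne
  push Not at hne
  obtain ⟨u₀, v₀, hne⟩ := hne
  have hl0 : ∀ v, B 0 v = 1 := fun v => by
    have h1 := hl 0 0 v
    rwa [add_zero, left_eq_mul] at h1
  have hr0 : ∀ u, B u 0 = 1 := fun u => by
    have h1 := hr u 0 0
    rwa [add_zero, left_eq_mul] at h1
  have hsmall : ∀ P : AddSubgroup F, (∀ x ∈ P, μ * x ∈ P) → (∀ x, x ∈ P → x ≠ 0 → False) ∨ ∀ x, x ∈ P :=
    fun P hP => by
      rcases hirr P hP with e | e
      · exact Or.inl fun x hx hx0 => hx0 (AddSubgroup.mem_bot.1 (e ▸ hx))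
      · exact Or.inr fun x => e ▸ AddSubgroup.mem_top x
  have hμ0 : μ ≠ 0 := fun e => hne (by rw [← hinv, e, zero_mul, zero_mul, hl0])
  -- the right radical is trivial
  have hrad : ∀ x, (∀ u, B u x = 1) → x = 0 := by
    let P : AddSubgroup F :=
      { carrier := {x | ∀ u, B u x = 1}
        zero_mem' := hr0
        add_mem' := fun {a b} ha hb u => by rw [hr, ha, hb, one_mul]
        neg_mem' := fun {a} ha u => by rw [CharTwo.neg_eq]; exact ha u }
    intro x hx
    by_contra hx0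
    rcases hsmall P (fun y hy u => by
      rw [show u = μ * (μ⁻¹ * u) by rw [mul_inv_cancel_left₀ hμ0], hinv]; exact hy _) with h | h
    · exact h x hx hx0
    · exact hne (h v₀ u₀)
  -- the adjoint
  let R : Subring F :=
    { carrier := {x | ∃ x', ∀ u v, B (x * u) v = B u (x' * v)}
      mul_mem' := fun {a b} ⟨a', ha⟩ ⟨b', hb⟩ => ⟨a' * b', fun u v => by
        rw [mul_assoc, ha, hb, ← mul_assoc, mul_comm b']⟩
      one_mem' := ⟨1, fun u v => by rw [one_mul, one_mul]⟩
      add_mem' := fun {a b} ⟨a', ha⟩ ⟨b', hb⟩ => ⟨a' + b', fun u v => by rw [add_mul, hl, ha, hb, add_mul, hr]⟩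
      zero_mem' := ⟨0, fun u v => by rw [zero_mul, zero_mul, hl0, hr0]⟩
      neg_mem' := fun {a} ⟨a', ha⟩ => ⟨a', fun u v => by rw [CharTwo.neg_eq]; exact ha u v⟩ }
  have hμR : ∀ u v, B (μ * u) v = B u (μ⁻¹ * v) := fun u v => by
    conv_lhs => rw [show v = μ * (μ⁻¹ * v) by rw [mul_inv_cancel_left₀ hμ0], hinv]
  have hall : ∀ x, x ∈ R := by
    rcases hsmall R.toAddSubgroup (fun x hx => R.mul_mem ⟨μ⁻¹, hμR⟩ hx) with h | h
    · exact (h 1 R.one_mem one_ne_zero).elim
    · exact h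
  choose σ hσ using hall
  have huniq : ∀ x x', (∀ u v, B (x * u) v = B u (x' * v)) → σ x = x' := fun x x' hx' => by
    refine CharTwo.add_eq_zero.1 ?_
    by_contra h0
    refine h0 ?_
    have h1 := hrad ((σ x + x') * v₀) fun u => by
      rw [add_mul, hr, ← hσ, ← hx', ← hl, CharTwo.add_self_eq_zero, hl0]
    rcases mul_eq_zero.1 h1 with h2 | h2
    · exact h2
    · exact absurd (by rw [h2, hr0]) hne
  let f : F →+* F :=
    { toFun := σ
      map_one' := huniq _ _ fun u v => by rw [one_mul, one_mul]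
      map_mul' := fun a b => huniq _ _ fun u v => by rw [mul_assoc, hσ, hσ, ← mul_assoc, mul_comm (σ b)]
      map_zero' := huniq _ _ fun u v => by rw [zero_mul, zero_mul, hl0, hr0]
      map_add' := fun a b => huniq _ _ fun u v => by rw [add_mul, hl, hσ, hσ, add_mul, hr] }
  have hfμ : f μ = μ⁻¹ := huniq _ _ hμR
  letI := ZMod.algebra F 2
  let e : F ≃ₐ[ZMod 2] F := AlgEquiv.ofRingEquiv (f := RingEquiv.ofBijective f ⟨f.injective,
    Finite.surjective_of_injective f.injective⟩) fun x => RingHom.congr_fun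
      (RingHom.ext_zmod (f.comp (algebraMap (ZMod 2) F)) (algebraMap (ZMod 2) F)) x
  obtain ⟨j, hj⟩ := (FiniteField.bijective_frobeniusAlgEquivOfAlgebraic_pow (ZMod 2) F).2 e
  refine hμ j ?_
  have h1 : μ ^ 2 ^ (j : ℕ) = μ⁻¹ := by
    have h2 : (FiniteField.frobeniusAlgEquivOfAlgebraic (ZMod 2) F ^ (j : ℕ)) μ = e μ := congrArg (fun g => g μ) hj
    rw [AlgEquiv.coe_pow, FiniteField.coe_frobeniusAlgEquivOfAlgebraic, pow_iterate, ZMod.card] at h2
    exact h2.trans hfμ
  rw [pow_succ, h1, inv_mul_cancel₀ hμ0]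

end CfsgLib.SECrit.Closure
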