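import Mathlib.GroupTheory.SpecificGroups.Quaternion
import Mathlib.GroupTheory.Perm.Sign
import Mathlib.Algebra.Group.End
import Mathlib.Algebra.Group.Prod
import Mathlib.Data.ZMod.Units
import Mathlib.GroupTheory.QuotientGroup.Defs
import Mathlib.Tactic.LinearCombination
import Mathlib.Tactic.Ring

/-!
# Generalised quaternion groups: the centre, and outer automorphisms of two-power order
-/

set_option autoImplicit false
set_option linter.style.haveILetI false

namespace CfsgLib.SECrit.Closure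

open QuaternionGroup

variable {n : ℕ}

theorem two_ne_zero_zmod (hn : 2 ≤ n) : (2 : ZMod (2 * n)) ≠ 0 := fun e => by
  have h1 : ((2 : ℕ) : ZMod (2 * n)) = 0 := by exact_mod_cast e
  have := Nat.le_of_dvd (by norm_num) ((ZMod.natCast_eq_zero_iff _ _).1 h1)
  omega

/-- Central elements square to one. -/
theorem quaternion_center_sq (hn : 2 ≤ n) {x : QuaternionGroup n} (hx : ∀ y, Commute x y) : x * x = 1 := by
  cases x with
  | a i =>
    have h1 := (hx (xa 0)).eq
    rw [a_mul_xa, xa_mul_a] at h1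
    injection h1 with h2
    rw [a_mul_a, one_def]
    congr 1
    linear_combination -h2
  | xa i =>
    have h1 := (hx (a 1)).eq
    rw [a_mul_xa, xa_mul_a] at h1
    injection h1 with h2
    exact absurd (show (2 : ZMod (2 * n)) = 0 by linear_combination h2) (two_ne_zero_zmod hn)

/-- An endomorphism is known on two elements. -/
theorem quaternion_ext [NeZero n] {α β : MulAut (QuaternionGroup n)} (h1 : α (a 1) = β (a 1))
    (h2 : α (xa 0) = β (xa 0)) : α = β := by
  have ha : ∀ i : ZMod (2 * n), α (a i) = β (a i) := fun i => by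
    rw [← ZMod.natCast_zmod_val i, ← a_one_pow, map_pow, map_pow, h1]
  refine MulEquiv.ext fun x => ?_
  cases x with
  | a i => exact ha i
  | xa i => rw [show xa i = xa 0 * a i by rw [xa_mul_a, zero_add], map_mul, map_mul, h2, ha]

theorem conj_a_apply (k : ZMod (2 * n)) :
    MulAut.conj (a k : QuaternionGroup n) (a 1) = a 1 ∧
      MulAut.conj (a k : QuaternionGroup n) (xa 0) = xa (-(2 * k)) := by
  constructor <;> rw [MulAut.conj_apply]
  · show a k * a 1 * a (-k) = a 1
    rw [a_mul_a, a_mul_a]; congr 1; ring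
  · show a k * xa 0 * a (-k) = xa (-(2 * k))
    rw [a_mul_xa, xa_mul_a]; congr 1; ring

theorem conj_xa_apply (k : ZMod (2 * n)) :
    MulAut.conj (xa k : QuaternionGroup n) (a 1) = a (-1) ∧
      MulAut.conj (xa k : QuaternionGroup n) (xa 0) = xa (2 * k) := by
  have h2 : (2 * (n : ZMod (2 * n))) = 0 := by norm_cast; simp
  constructor <;> rw [MulAut.conj_apply]
  · show xa k * a 1 * xa ((n : ZMod (2 * n)) + k) = a (-1)
    rw [xa_mul_a, xa_mul_xa]; congr 1; linear_combination h2
  · show xa k * xa 0 * xa ((n : ZMod (2 * n)) + k) = xa (2 * k)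
    rw [xa_mul_xa, a_mul_xa]; congr 1; ring

/-- `x` is `a (± 1)` and `y` is `xa` of an even index: then the automorphism is inner. -/
theorem quaternion_inner [NeZero n] {α : MulAut (QuaternionGroup n)} {i k : ZMod (2 * n)}
    (h1 : α (a 1) = a i) (hi : i = 1 ∨ i = -1) (h2 : α (xa 0) = xa (2 * k)) : ∃ g, α = MulAut.conj g := by
  rcases hi with rfl | rfl
  · exact ⟨a (-k), quaternion_ext (h1.trans (conj_a_apply (-k)).1.symm) (h2.trans (by
      rw [(conj_a_apply (-k)).2]; congr 1; ring))⟩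
  · exact ⟨xa k, quaternion_ext (h1.trans (conj_xa_apply k).1.symm) (h2.trans (conj_xa_apply k).2.symm)⟩

theorem exists_two_mul {m : ℕ} {j : ZMod (2 * m)} [NeZero m]
    (h : ZMod.castHom (dvd_mul_right 2 m) (ZMod 2) j = 0) : ∃ k : ZMod (2 * m), j = 2 * k := by
  rw [← ZMod.natCast_zmod_val j, map_natCast, ZMod.natCast_eq_zero_iff] at h
  obtain ⟨k, hk⟩ := h
  exact ⟨k, by rw [← ZMod.natCast_zmod_val j, hk]; push_cast; ring⟩

/-- **The outer class of an automorphism, order at least sixteen.** -/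
theorem exists_outer_large [NeZero n] (hn : 3 ≤ n) :
    ∃ (A : Type) (_ : CommGroup A) (ψ : MulAut (QuaternionGroup n) →* A),
      (∀ g, ψ (MulAut.conj g) = 1) ∧ ∀ α, ψ α = 1 → ∃ g, α = MulAut.conj g := by
  classical
  set c2 := ZMod.castHom (dvd_mul_right 2 n) (ZMod 2) with hc2
  have hdata : ∀ α : MulAut (QuaternionGroup n), ∃ p : (ZMod (2 * n))ˣ × ZMod (2 * n),
      α (a 1) = a (p.1 : ZMod (2 * n)) ∧ α (xa 0) = xa p.2 := by
    intro α
    have himg : ∀ β : MulAut (QuaternionGroup n), ∃ i, β (a 1) = a i := fun β => by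
      rcases h : β (a 1) with i | i
      · exact ⟨i, rfl⟩
      · have h1 := MulEquiv.orderOf_eq β (a 1 : QuaternionGroup n)
        rw [h, orderOf_xa, orderOf_a_one] at h1
        omega
    have hpow : ∀ (β : MulAut (QuaternionGroup n)) (i : ZMod (2 * n)), β (a 1) = a i → ∀ j, β (a j) = a (j * i) := by
      intro β i hi j
      rw [← ZMod.natCast_zmod_val j, ← a_one_pow, map_pow, hi]
      generalize j.val = k
      induction k with
      | zero => simp
      | succ k ih => rw [pow_succ, ih, a_mul_a]; congr 1; push_cast; ring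
    obtain ⟨i, hi⟩ := himg α
    obtain ⟨l, hl⟩ := himg α⁻¹
    have hli : l * i = 1 := by
      have h1 : α (α⁻¹ (a 1)) = a 1 := MulEquiv.apply_symm_apply α _
      rw [hl, hpow α i hi] at h1
      injection h1
    refine ⟨(⟨i, l, by rw [mul_comm i l]; exact hli, hli⟩, ?_), hi, ?_⟩
    · exact match α (xa 0) with
        | a j => j
        | xa j => j
    · rcases h : α (xa 0) with j | j
      · exfalso
        have h1 : α⁻¹ (a j) = xa 0 := by rw [← h]; exact MulEquiv.symm_apply_apply α _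
        rw [hpow α⁻¹ l hl] at h1
        exact absurd h1 (by simp)
      · rfl
  choose p hp1 hp2 using hdata
  have huniq : ∀ α (i : (ZMod (2 * n))ˣ) j, α (a 1) = a (i : ZMod (2 * n)) → α (xa 0) = xa j → p α = (i, j) := by
    intro α i j h1 h2
    have e1 := (hp1 α).symm.trans h1
    have e2 := (hp2 α).symm.trans h2
    injection e1 with e1
    injection e2 with e2
    exact Prod.ext (Units.ext e1) e2
  have hmulp : ∀ α β, p (α * β) = ((p α).1 * (p β).1, (p α).2 + ((p α).1 : ZMod (2 * n)) * (p β).2) := by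
    intro α β
    have hpow : ∀ j : ZMod (2 * n), α (a j) = a (j * ((p α).1 : ZMod (2 * n))) := fun j => by
      rw [← ZMod.natCast_zmod_val j, ← a_one_pow, map_pow, hp1 α]
      generalize j.val = k
      induction k with
      | zero => simp
      | succ k ih => rw [pow_succ, ih, a_mul_a]; congr 1; push_cast; ring
    refine huniq _ _ _ ?_ ?_
    · rw [MulAut.mul_apply, hp1, hpow, Units.val_mul, mul_comm]
    · rw [MulAut.mul_apply, hp2, show xa (p β).2 = xa 0 * a (p β).2 by rw [xa_mul_a, zero_add], map_mul, hp2,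
        hpow, xa_mul_a]
      congr 1
      ring
  have hodd : ∀ u : (ZMod (2 * n))ˣ, c2 (u : ZMod (2 * n)) = 1 := fun u => by
    have h1 : ∀ x : ZMod 2, IsUnit x → x = 1 := by decide
    exact h1 _ (u.isUnit.map c2)
  let Z := Subgroup.zpowers (-1 : (ZMod (2 * n))ˣ)
  refine ⟨((ZMod (2 * n))ˣ ⧸ Z) × Multiplicative (ZMod 2), inferInstance,
    MonoidHom.mk' (fun α => (QuotientGroup.mk (p α).1, Multiplicative.ofAdd (c2 (p α).2))) (fun α β => ?_),
    fun g => ?_, fun α hα => ?_⟩
  · rw [hmulp]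
    refine Prod.ext rfl ?_
    show Multiplicative.ofAdd (c2 ((p α).2 + ((p α).1 : ZMod (2 * n)) * (p β).2)) = _
    rw [map_add, map_mul, hodd, one_mul]
    rfl
  · show (QuotientGroup.mk (p (MulAut.conj g)).1, Multiplicative.ofAdd (c2 (p (MulAut.conj g)).2)) = 1
    cases g with
    | a k =>
      rw [huniq _ 1 _ (conj_a_apply k).1 (conj_a_apply k).2]
      refine Prod.ext rfl ?_
      show Multiplicative.ofAdd (c2 (-(2 * k))) = 1
      rw [map_neg, map_mul, map_ofNat, show (2 : ZMod 2) = 0 from rfl, zero_mul, neg_zero]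
      rfl
    | xa k =>
      rw [huniq _ (-1) _ (by rw [(conj_xa_apply k).1]; rfl) (conj_xa_apply k).2]
      refine Prod.ext ((QuotientGroup.eq_one_iff _).2 (Subgroup.mem_zpowers _)) ?_
      show Multiplicative.ofAdd (c2 (2 * k)) = 1
      rw [map_mul, map_ofNat, show (2 : ZMod 2) = 0 from rfl, zero_mul]
      rfl
  · have hα' : (QuotientGroup.mk (p α).1 : (ZMod (2 * n))ˣ ⧸ Z) = 1 ∧ c2 (p α).2 = 0 :=
      ⟨congrArg Prod.fst hα, congrArg (fun x : _ × Multiplicative (ZMod 2) => x.2.toAdd) hα⟩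
    obtain ⟨k, hk⟩ := exists_two_mul hα'.2
    refine quaternion_inner (k := k) (hp1 α) ?_ (by rw [hp2 α, hk])
    obtain ⟨e, he⟩ := Subgroup.mem_zpowers_iff.1 ((QuotientGroup.eq_one_iff _).1 hα'.1)
    rw [← he]
    rcases Int.even_or_odd e with ⟨d, rfl⟩ | ⟨d, rfl⟩
    · exact Or.inl (by rw [← two_mul, zpow_mul, show ((-1 : (ZMod (2 * n))ˣ)) ^ (2 : ℤ) = 1 by
        rw [zpow_two]; simp, one_zpow, Units.val_one])
    · exact Or.inr (by rw [zpow_add, zpow_one, zpow_mul, show ((-1 : (ZMod (2 * n))ˣ)) ^ (2 : ℤ) = 1 by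
        rw [zpow_two]; simp, one_zpow, one_mul]; rfl)

/-- The class of an element of the quaternion group of order eight. -/
def cls : QuaternionGroup 2 → Fin 3
  | a _ => 0
  | xa i => if i = 0 ∨ i = 2 then 1 else 2

/-- A representative of a class. -/
def rep : Fin 3 → QuaternionGroup 2
  | 0 => a 1
  | 1 => xa 0
  | 2 => xa 1

theorem cls_rep : ∀ c, cls (rep c) = c := by decide

theorem exists_rep : ∀ y : QuaternionGroup 2, y * y ≠ 1 → ∃ c, y = rep c ∨ y = rep c * a 2 := by decide

theorem cls_mul : ∀ y : QuaternionGroup 2, cls (y * a 2) = cls y := by decide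

theorem rep_sq : ∀ c, rep c * rep c ≠ 1 := by decide

theorem a_two_unique : ∀ y : QuaternionGroup 2, y * y = 1 → y ≠ 1 → y = a 2 := by decide

theorem a_two_ne : (a 2 : QuaternionGroup 2) ≠ 1 := by decide

theorem a_two_sq : (a 2 : QuaternionGroup 2) * a 2 = 1 := by decide

theorem cls_a : ∀ p : QuaternionGroup 2, p * p ≠ 1 → cls p = 0 → p = a 1 ∨ p = a (-1) := by decide

theorem cls_xa : ∀ q : QuaternionGroup 2, q * q ≠ 1 → cls q = 1 → ∃ k, q = xa (2 * k) := by decide

theorem perm_three : ∀ σ : Equiv.Perm (Fin 3), Equiv.Perm.sign σ = 1 → σ * σ * σ = 1 := by decide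

/-- **The outer class of an automorphism, order eight.** -/
theorem exists_outer_eight :
    ∃ (A : Type) (_ : CommGroup A) (ψ : MulAut (QuaternionGroup 2) →* A),
      (∀ g, ψ (MulAut.conj g) = 1) ∧
        ∀ α, (∃ k : ℕ, α ^ 2 ^ k = 1) → ψ α = 1 → ∃ g, α = MulAut.conj g := by
  classical
  let f : MulAut (QuaternionGroup 2) → Fin 3 → Fin 3 := fun α c => cls (α (rep c))
  have hsq : ∀ (α : MulAut (QuaternionGroup 2)) c, α (rep c) * α (rep c) ≠ 1 := fun α c h =>
    rep_sq c (α.injective (by rw [map_mul, h, map_one]))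
  have htwo : ∀ α : MulAut (QuaternionGroup 2), α (a 2) = a 2 := fun α =>
    a_two_unique _ (by rw [← map_mul, a_two_sq, map_one]) fun e => a_two_ne (α.injective (e.trans (map_one α).symm))
  have hcls : ∀ (α : MulAut (QuaternionGroup 2)) y, y * y ≠ 1 → cls (α y) = f α (cls y) := by
    intro α y hy
    obtain ⟨c, hc | hc⟩ := exists_rep y hy
    · rw [hc, cls_rep]
    · rw [hc, cls_mul, cls_rep, map_mul, htwo, cls_mul]
  have hmul : ∀ α β, ∀ c, f (α * β) c = f α (f β c) := fun α β c => hcls α _ (hsq β c)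
  have hone : ∀ c, f 1 c = c := cls_rep
  let σ : MulAut (QuaternionGroup 2) →* Equiv.Perm (Fin 3) := MonoidHom.mk'
    (fun α => ⟨f α, f α⁻¹, fun c => by rw [← hmul, inv_mul_cancel, hone],
      fun c => by rw [← hmul, mul_inv_cancel, hone]⟩) (fun α β => Equiv.ext (hmul α β))
  refine ⟨ℤˣ, inferInstance, Equiv.Perm.sign.comp σ, fun g => ?_, fun α ⟨k, hk⟩ hα => ?_⟩
  · have hfix : σ (MulAut.conj g) = 1 := by
      refine Equiv.ext fun c => ?_
      show cls (g * rep c * g⁻¹) = c
      revert g c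
      decide
    rw [MonoidHom.comp_apply, hfix, map_one]
  · have h3 : σ α ^ 3 = 1 := by
      rw [pow_succ, pow_two]; exact perm_three _ hα
    have h2 : σ α ^ 2 ^ k = 1 := by rw [← map_pow, hk, map_one]
    have h1 : σ α = 1 := by
      refine orderOf_eq_one_iff.1 (Nat.dvd_one.1 ?_)
      have hg := Nat.dvd_gcd (orderOf_dvd_of_pow_eq_one h3) (orderOf_dvd_of_pow_eq_one h2)
      rwa [Nat.Coprime.gcd_eq_one ((by decide : Nat.Coprime 3 2).pow_right k)] at hg
    have hc : ∀ c, cls (α (rep c)) = c := fun c => Equiv.ext_iff.1 h1 c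
    obtain ⟨k', hk'⟩ := cls_xa _ (hsq α 1) (hc 1)
    rcases cls_a _ (hsq α 0) (hc 0) with h | h
    · exact quaternion_inner (k := k') h (Or.inl rfl) hk'
    · exact quaternion_inner (k := k') h (Or.inr rfl) hk'

/-- **The outer class of an automorphism.** -/
theorem exists_outer {m : ℕ} (hm : 1 ≤ m) :
    ∃ (A : Type) (_ : CommGroup A) (ψ : MulAut (QuaternionGroup (2 ^ m)) →* A),
      (∀ g, ψ (MulAut.conj g) = 1) ∧
        ∀ α, (∃ k : ℕ, α ^ 2 ^ k = 1) → ψ α = 1 → ∃ g, α = MulAut.conj g := by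
  rcases Nat.lt_or_ge m 2 with h | h
  · obtain rfl : m = 1 := by omega
    exact exists_outer_eight
  · have h4 : 2 ^ 2 ≤ 2 ^ m := Nat.pow_le_pow_right (by norm_num) h
    obtain ⟨A, i, ψ, h1, h2⟩ := exists_outer_large (n := 2 ^ m) (by omega)
    exact ⟨A, i, ψ, h1, fun α _ hα => h2 α hα⟩

end CfsgLib.SECrit.Closure
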