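import Cfsg.Agent.Lib.Invol.SECriterion.Closure.Basic
import Cfsg.Agent.Lib.Invol.ZStar

/-!
# One involution in `S`: the group is the odd core times `H`
-/

set_option autoImplicit false

namespace CfsgLib.SECrit.Closure

open Subgroup CfsgLib.Invol

universe u

variable {G : Type u} [Group G] [Finite G] {T : Sylow 2 G} {S H : Subgroup G}

/-- **With one involution in `S` the group is its odd core times `H`.** -/
theorem SCSet.exists_eq_mul_odd (h : SCSet T S H) {z : G} (hz : z ∈ S) (hzo : orderOf z = 2)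
    (huniq : ∀ s ∈ S, orderOf s = 2 → s = z) (g : G) :
    ∃ o ∈ Cfsg.oddCore G, ∃ n ∈ centralizer ({z} : Set G), g = o * n := by
  have hZ : IsZCentral z := zstar_of_weakly_closed T hzo fun g hg =>
    huniq _ (h.closed_conj hz hg) (invol_conj hzo g)
  have hgz : orderOf (g * z * g⁻¹) = 2 := invol_conj hzo g
  have hmem : z * (g * z * g⁻¹) ∈ Cfsg.oddCore G := by
    have := hZ g
    rwa [invol_inv hzo, show z * g * z * g⁻¹ = z * (g * z * g⁻¹) by group] at this
  have hodd : Odd (orderOf (z * (g * z * g⁻¹))) :=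
    (Nat.coprime_two_right.1 (CfsgLib.Coprime.pPrimeCore_coprime Nat.prime_two)).of_dvd_nat
      (Subgroup.orderOf_dvd_natCard (Cfsg.pPrimeCore 2 G) hmem)
  obtain ⟨d, hd, hde⟩ := exists_conj_eq_of_odd hzo hgz hodd
  refine ⟨d, (zpowers_le.2 hmem) hd, d⁻¹ * g, mem_centralizer_singleton_iff.2 ?_, by rw [mul_inv_cancel_left]⟩
  have h1 : d * z = g * z * g⁻¹ * d := mul_inv_eq_iff_eq_mul.1 hde
  calc d⁻¹ * g * z = d⁻¹ * (g * z * g⁻¹ * d) * (d⁻¹ * g) := by group
    _ = d⁻¹ * (d * z) * (d⁻¹ * g) := by rw [h1]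
    _ = z * (d⁻¹ * g) := by group

end CfsgLib.SECrit.Closure
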