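import Cfsg.Agent.Lib.Invol.SECriterion.Closure.Fusion
import Cfsg.Agent.Lib.Invol.SECriterion.Closure.Quaternion
import Cfsg.Agent.Lib.Invol.ExtremelyClosedTwo
import Cfsg.Agent.Lib.Invol.ZStar
import Cfsg.Agent.Lib.ProdFusion.Main
import Cfsg.Agent.S0016
import Cfsg.Agent.S1250
import Mathlib.GroupTheory.Transfer

/-!
# A strongly closed two-subgroup with one central involution is Sylow in its normal closure

Cyclic: normal, by Glauberman's theorem.  Quaternion: the centralizer in the Sylow subgroup is strongly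
closed, product fusion makes it central modulo the involution, and two transfers do the rest.
-/

set_option autoImplicit false
set_option linter.style.haveILetI false

namespace CfsgLib.SECrit.Closure

open Subgroup CfsgLib.Invol

universe u

variable {G : Type u} [Group G] [Finite G]

/-- The transfer at an element whose terms have the values of its powers. -/
theorem transfer_eq_pow_of_terms {H : Subgroup G} {A : Type*} [CommGroup A] (χ : H →* A) {x : G} {a : A}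
    (hterm : ∀ (g : G) (k : ℕ) (h : g⁻¹ * x ^ k * g ∈ H), χ ⟨g⁻¹ * x ^ k * g, h⟩ = a ^ k) :
    MonoidHom.transfer χ x = a ^ H.index := by
  classical
  haveI : H.FiniteIndex := ⟨index_ne_zero_of_finite⟩
  letI := H.fintypeQuotientOfFiniteIndex
  letI := Fintype.ofFinite (Quotient (MulAction.orbitRel (zpowers x) (G ⧸ H)))
  rw [MonoidHom.transfer_eq_prod_quotient_orbitRel_zpowers_quot, index_eq_sum_minimalPeriod H x,
    ← Finset.prod_pow_eq_pow_sum]
  exact Finset.prod_congr rfl fun q _ => hterm _ _ _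

omit [Finite G] in
/-- An element killed by an odd number and by a power of two is trivial. -/
theorem eq_one_of_pow_odd {A : Type*} [Monoid A] {a : A} {n k : ℕ} (hn : Odd n) (h1 : a ^ n = 1)
    (h2 : a ^ 2 ^ k = 1) : a = 1 := by
  have h : a ^ Nat.gcd n (2 ^ k) = 1 := pow_gcd_eq_one.2 ⟨h1, h2⟩
  rwa [Nat.Coprime.gcd_eq_one ((Nat.coprime_two_right.2 hn).pow_right k), pow_one] at h

omit [Finite G] in
/-- A homomorphism on a normal closure killing the conjugates of the generators is trivial. -/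
theorem eq_one_on_normalClosure {S : Subgroup G} {A : Type*} [Group A] (V : normalClosure (S : Set G) →* A)
    (h : ∀ s ∈ S, ∀ g : G, ∀ hm : g * s * g⁻¹ ∈ normalClosure (S : Set G), V ⟨g * s * g⁻¹, hm⟩ = 1) :
    ∀ x, V x = 1 := by
  intro x
  obtain ⟨x, hx⟩ := x
  induction hx using closure_induction with
  | mem y hy =>
    obtain ⟨s, hs, hsy⟩ := Group.mem_conjugatesOfSet_iff.1 hy
    obtain ⟨g, rfl⟩ := isConj_iff.1 hsy
    exact h s hs g _
  | one => exact map_one _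
  | mul a b ha hb iha ihb =>
    rw [show (⟨a * b, mul_mem ha hb⟩ : normalClosure (S : Set G)) = ⟨a, ha⟩ * ⟨b, hb⟩ from rfl, map_mul, iha, ihb,
      one_mul]
  | inv a ha iha =>
    rw [show (⟨a⁻¹, inv_mem ha⟩ : normalClosure (S : Set G)) = (⟨a, ha⟩ : normalClosure (S : Set G))⁻¹ from rfl,
      map_inv, iha, inv_one]

/-- **A strongly closed cyclic two-subgroup is normal without an odd core.** -/
theorem normal_of_cyclic {G : Type u} [Group G] [Finite G] (T : Sylow 2 G) (S : Subgroup G)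
    (hO : Cfsg.oddCore G = ⊥) (hsc : Cfsg.IsStronglyClosed S (T : Subgroup G)) (hcyc : IsCyclic S) :
    S.Normal := by
  suffices H : ∀ (n : ℕ) (G : Type u) [Group G] [Finite G] (T : Sylow 2 G) (S : Subgroup G),
      Nat.card S < n → Cfsg.oddCore G = ⊥ → Cfsg.IsStronglyClosed S (T : Subgroup G) → IsCyclic S → S.Normal from
    H _ G T S (Nat.lt_succ_self _) hO hsc hcyc
  intro n
  induction n with
  | zero => intro G _ _ T S h; omega
  | succ n ih =>
    intro G _ _ T S hcard hO hsc hcyc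
    classical
    haveI : Fact (Nat.Prime 2) := ⟨Nat.prime_two⟩
    by_cases hS : S = ⊥
    · subst hS; infer_instance
    have h2S : IsPGroup 2 S := T.2.to_le hsc.1
    obtain ⟨z, hzS, hzo⟩ : ∃ z ∈ S, orderOf z = 2 := by
      obtain ⟨k, hk⟩ := h2S.exists_card_eq
      exact exists_invol_mem (by
        rw [hk]
        exact Nat.even_pow.2 ⟨even_two, fun h0 => hS (eq_bot_of_card_eq _ (by rw [hk, h0, pow_zero]))⟩)
    have huniq : ∀ y ∈ S, orderOf y = 2 → y = z := fun y hy hyo => by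
      by_contra hne
      letI := Fintype.ofFinite S
      have hle := IsCyclic.card_pow_eq_one_le (α := S) (n := 2) (by norm_num)
      have h3 : ({1, ⟨z, hzS⟩, ⟨y, hy⟩} : Finset S) ⊆ Finset.univ.filter (fun x : S => x ^ 2 = 1) := by
        intro w hw
        simp only [Finset.mem_insert, Finset.mem_singleton] at hw
        rw [Finset.mem_filter]
        refine ⟨Finset.mem_univ _, ?_⟩
        rcases hw with rfl | rfl | rfl
        · exact one_pow 2
        · exact Subtype.ext (show z ^ 2 = 1 by rw [← hzo, pow_orderOf_eq_one])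
        · exact Subtype.ext (show y ^ 2 = 1 by rw [← hyo, pow_orderOf_eq_one])
      have hc : ({1, ⟨z, hzS⟩, ⟨y, hy⟩} : Finset S).card = 3 := Finset.card_eq_three.2
        ⟨1, ⟨z, hzS⟩, ⟨y, hy⟩, fun e => invol_ne_one hzo (congrArg Subtype.val e).symm,
          fun e => invol_ne_one hyo (congrArg Subtype.val e).symm,
          fun e => hne (congrArg Subtype.val e).symm, rfl⟩
      have := (hc ▸ Finset.card_le_card h3).trans hle
      omega
    have hz : z ∈ center G := mem_center_iff.2 fun g => by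
      have h1 := zstar_of_weakly_closed T hzo (fun g hg => huniq _ (hsc.2 z hzS g hg) (invol_conj hzo g)) g
      rw [show Cfsg.pPrimeCore 2 G = ⊥ from hO, mem_bot] at h1
      have h2 : z * g * z⁻¹ = g := mul_inv_eq_one.1 h1
      exact (mul_inv_eq_iff_eq_mul.1 h2).symm
    set Z := zpowers z with hZ
    have hZc : Z ≤ center G := zpowers_le.2 hz
    haveI : Z.Normal := ⟨fun x hx g => by
      rw [mem_center_iff.1 (hZc hx) g, mul_inv_cancel_right]; exact hx⟩
    set π := QuotientGroup.mk' Z with hπ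
    have hO' : Cfsg.oddCore (G ⧸ Z) = ⊥ := CfsgLib.ExtClosed.pPrimeCore_quotient_central hO
      (IsPGroup.of_card (n := 1) (by rw [Nat.card_zpowers, hzo, pow_one])) hZc
    have hsc' := Cfsg.Agent.S1250.result T S hsc Z
    have hker : π.ker ≤ S := by rw [hπ, QuotientGroup.ker_mk']; exact zpowers_le.2 hzS
    have hlt : Nat.card (S.map π) < Nat.card S := by
      refine lt_of_le_of_ne (Nat.le_of_dvd Nat.card_pos (card_map_dvd S π)) fun e => ?_
      let f : S → (S.map π) := fun s => ⟨π s, mem_map_of_mem π s.2⟩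
      have hf : Function.Bijective f := (Nat.bijective_iff_surjective_and_card f).2
        ⟨fun ⟨_, s, hs, hse⟩ => ⟨⟨s, hs⟩, Subtype.ext hse⟩, e.symm⟩
      have h1 := hf.1 (a₁ := ⟨z, hzS⟩) (a₂ := 1) (Subtype.ext (show π z = π 1 by
        rw [map_one]; exact (QuotientGroup.eq_one_iff z).2 (mem_zpowers z)))
      exact invol_ne_one hzo (congrArg Subtype.val h1)
    haveI : IsCyclic (S.map π) := isCyclic_of_surjective (π.subgroupMap S) (π.subgroupMap_surjective S)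
    have hn := ih (G ⧸ Z) (T.mapSurjective (QuotientGroup.mk'_surjective Z)) (S.map π) (by omega) hO'
      (by rw [Sylow.coe_mapSurjective]; exact hsc') inferInstance
    rw [← comap_map_eq_self hker]
    exact hn.comap π

/-- The class of an outer automorphism is kept by fusion. -/
theorem exists_invariant_class {T : Sylow 2 G} {S : Subgroup G} (hsc : Cfsg.IsStronglyClosed S (T : Subgroup G))
    {m : ℕ} (hm : 1 ≤ m) (e : S ≃* QuaternionGroup (2 ^ m)) :
    ∃ (A : Type) (_ : CommGroup A) (Φ : (T : Subgroup G) →* A),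
      (∀ t : (T : Subgroup G), (t : G) ∈ S → Φ t = 1) ∧
      (∀ (g : G) (t : (T : Subgroup G)) (h : g * t * g⁻¹ ∈ (T : Subgroup G)), Φ ⟨g * t * g⁻¹, h⟩ = Φ t) ∧
      ∀ t : (T : Subgroup G), Φ t = 1 → ∃ s ∈ S, s⁻¹ * (t : G) ∈ centralizer (S : Set G) := by
  classical
  obtain ⟨A, _, ψ, hψin, hψout⟩ := exists_outer hm
  set N := normalizer (S : Set G) with hN
  have hTN : (T : Subgroup G) ≤ N := fun t ht => mem_normalizer_iff.2 fun s =>
    ⟨fun hs => hsc.2 s hs t (mul_mem (mul_mem ht (hsc.1 hs)) (inv_mem ht)), fun hs => by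
      have hsT : s ∈ (T : Subgroup G) := by
        simpa [mul_assoc] using mul_mem (mul_mem (inv_mem ht) (hsc.1 hs)) ht
      simpa [mul_assoc] using hsc.2 _ hs t⁻¹ (by simpa [mul_assoc] using hsT)⟩
  let Φ₀ : N →* A := (ψ.comp (MulAut.congr e).toMonoidHom).comp S.normalizerMonoidHom
  have hΦS : ∀ (s : G) (hs : s ∈ S), Φ₀ ⟨s, le_normalizer hs⟩ = 1 := fun s hs => by
    show ψ (MulAut.congr e (S.normalizerMonoidHom ⟨s, le_normalizer hs⟩)) = 1
    have h1 : MulAut.congr e (S.normalizerMonoidHom ⟨s, le_normalizer hs⟩) = MulAut.conj (e ⟨s, hs⟩) := by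
      refine MulEquiv.ext fun y => ?_
      obtain ⟨w, rfl⟩ := e.surjective y
      show e (S.normalizerMonoidHom ⟨s, le_normalizer hs⟩ (e.symm (e w))) = e ⟨s, hs⟩ * e w * (e ⟨s, hs⟩)⁻¹
      rw [e.symm_apply_apply, ← map_mul, ← map_inv, ← map_mul]
      rfl
    rw [h1, hψin]
  let Φ' : G → A := fun g => if h : g ∈ N then Φ₀ ⟨g, h⟩ else 1
  have hΦ' : ∀ (g : G) (h : g ∈ N), Φ' g = Φ₀ ⟨g, h⟩ := fun g h => dif_pos h
  refine ⟨A, inferInstance, Φ₀.comp (Subgroup.inclusion hTN), fun t ht => hΦS t ht, fun g t hg => ?_,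
    fun t ht => ?_⟩
  · have key : Φ' (t : G) = Φ' (g * t * g⁻¹) := rel_of_fusion hsc (fun a b => Φ' a = Φ' b) (fun _ _ h => h.symm)
      (fun _ _ _ h1 h2 => h1.trans h2)
      (fun m hmN w hw hmw => by
        have hwN := hTN hw
        rw [hΦ' w hwN, hΦ' _ (hTN hmw),
          show (⟨m * w * m⁻¹, hTN hmw⟩ : N) = ⟨m, hmN⟩ * ⟨w, hwN⟩ * ⟨m, hmN⟩⁻¹ from rfl,
          map_mul, map_mul, map_inv, mul_comm (Φ₀ ⟨m, hmN⟩), mul_inv_cancel_right])
      (fun E hET _ _ k _ hkE w hw => by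
        have hwN := hTN (hET hw)
        have hs := hkE w hw
        have hm1 : k * w * k⁻¹ ∈ N := by simpa using mul_mem (le_normalizer hs : _ ∈ N) hwN
        rw [hΦ' w hwN, hΦ' _ hm1, show (⟨k * w * k⁻¹, hm1⟩ : N) = ⟨_, le_normalizer hs⟩ * ⟨w, hwN⟩ from
          Subtype.ext (by simp), map_mul, hΦS _ hs, one_mul]) t.2 hg
    rw [hΦ' _ (hTN t.2), hΦ' _ (hTN hg)] at key
    exact key.symm
  · obtain ⟨i, hi⟩ := T.2 t
    have h1 : ψ (MulAut.congr e (S.normalizerMonoidHom ⟨t, hTN t.2⟩)) = 1 := ht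
    obtain ⟨q, hq⟩ := hψout _ ⟨i, by
      rw [← map_pow, ← map_pow, show (⟨t, hTN t.2⟩ : N) ^ 2 ^ i = 1 from Subtype.ext (congrArg Subtype.val hi :),
        map_one, map_one]⟩ h1
    obtain ⟨⟨s, hs⟩, rfl⟩ := e.surjective q
    refine ⟨s, hs, mem_centralizer_iff.2 fun w hw => ?_⟩
    have h2 := congrArg (fun α : MulAut (QuaternionGroup (2 ^ m)) => α (e ⟨w, hw⟩)) hq
    simp only [MulAut.conj_apply] at h2
    change e (S.normalizerMonoidHom ⟨t, hTN t.2⟩ (e.symm (e ⟨w, hw⟩))) = _ at h2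
    rw [e.symm_apply_apply, ← map_mul, ← map_inv, ← map_mul] at h2
    have h3 : (t : G) * w * (t : G)⁻¹ = s * w * s⁻¹ := congrArg Subtype.val (e.injective h2)
    calc w * (s⁻¹ * (t : G)) = s⁻¹ * (s * w * s⁻¹) * t := by group
      _ = s⁻¹ * ((t : G) * w * (t : G)⁻¹) * t := by rw [h3]
      _ = _ := by group

/-- The normal closure centralizes the centralizer modulo the involution. -/
theorem commute_mod {T : Sylow 2 G} {S : Subgroup G} (hO : Cfsg.oddCore G = ⊥)
    (hsc : Cfsg.IsStronglyClosed S (T : Subgroup G)) {z : G} (hzS : z ∈ S) (hzo : orderOf z = 2)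
    (hz : z ∈ center G) (huniq : ∀ s ∈ S, orderOf s = 2 → s = z)
    (hcenS : ∀ c ∈ S, (∀ s ∈ S, Commute c s) → c ∈ zpowers z) :
    ∀ x ∈ normalClosure (S : Set G), ∀ c ∈ (T : Subgroup G) ⊓ centralizer (S : Set G),
      x⁻¹ * c * x * c⁻¹ ∈ zpowers z := by
  classical
  haveI : Fact (Nat.Prime 2) := ⟨Nat.prime_two⟩
  set C := (T : Subgroup G) ⊓ centralizer (S : Set G) with hC
  have hCsc := centralizer_strongly_closed hsc fun a ha b hb hao hbo => (huniq a ha hao).trans (huniq b hb hbo).symm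
  have hZc : zpowers z ≤ center G := zpowers_le.2 hz
  haveI : (zpowers z).Normal := ⟨fun x hx g => by
    rw [mem_center_iff.1 (hZc hx) g, mul_inv_cancel_right]; exact hx⟩
  set π := QuotientGroup.mk' (zpowers z) with hπ
  have hO' : Cfsg.pPrimeCore 2 (G ⧸ zpowers z) = ⊥ := CfsgLib.ExtClosed.pPrimeCore_quotient_central hO
    (IsPGroup.of_card (n := 1) (by rw [Nat.card_zpowers, hzo, pow_one])) hZc
  have hsc1 := Cfsg.Agent.S1250.result T S hsc (zpowers z)
  have hsc2 := Cfsg.Agent.S1250.result T C hCsc (zpowers z)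
  rw [← Sylow.coe_mapSurjective (QuotientGroup.mk'_surjective (zpowers z)) T] at hsc1 hsc2
  have hPF := CfsgLib.ProdFusion.commutator_normalClosure_le _ hsc1 hsc2 (by
      rintro _ ⟨a, ha, rfl⟩ _ ⟨b, hb, rfl⟩
      rw [← map_mul, ← map_mul, show a * b = b * a from mem_centralizer_iff.1 (mem_inf.1 hb).2 a ha]) (by
      rw [eq_bot_iff]
      rintro x ⟨⟨a, ha, rfl⟩, b, hb, hbe⟩
      have hab : a⁻¹ * b ∈ zpowers z := QuotientGroup.eq.1 hbe.symm
      have hbS : b ∈ S := by simpa using mul_mem ha (zpowers_le.2 hzS hab)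
      have hbZ := hcenS b hbS fun s hs => (mem_centralizer_iff.1 (mem_inf.1 hb).2 s hs).symm
      rw [mem_bot, ← hbe]
      exact (QuotientGroup.eq_one_iff b).2 hbZ)
  rw [hO', le_bot_iff, Subgroup.commutator_eq_bot_iff_le_centralizer] at hPF
  intro x hx c hc
  have hx' : π x ∈ normalClosure ((S.map π : Subgroup (G ⧸ zpowers z)) : Set (G ⧸ zpowers z)) := by
    rw [coe_map, ← map_normalClosure _ π (QuotientGroup.mk'_surjective (zpowers z))]
    exact mem_map_of_mem π hx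
  have h1 : π c * π x = π x * π c :=
    mem_centralizer_iff.1 (hPF hx') (π c) (subset_normalClosure (mem_map_of_mem π hc))
  refine (QuotientGroup.eq_one_iff _).1 ?_
  show π (x⁻¹ * c * x * c⁻¹) = 1
  rw [map_mul, map_mul, map_mul, map_inv, map_inv, mul_assoc (π x)⁻¹, h1, inv_mul_cancel_left, mul_inv_cancel]

/-- **A strongly closed two-subgroup with one central involution is Sylow in its normal closure.** -/
theorem mem_of_normalClosure (T : Sylow 2 G) {S : Subgroup G} (hO : Cfsg.oddCore G = ⊥)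
    (hsc : Cfsg.IsStronglyClosed S (T : Subgroup G)) {z : G} (hzS : z ∈ S) (hzo : orderOf z = 2)
    (hz : z ∈ center G) (huniq : ∀ s ∈ S, orderOf s = 2 → s = z) :
    ∀ t ∈ (T : Subgroup G), t ∈ normalClosure (S : Set G) → t ∈ S := by
  classical
  haveI : Fact (Nat.Prime 2) := ⟨Nat.prime_two⟩
  have hS2 : IsPGroup 2 S := T.2.to_le hsc.1
  by_cases hcyc : IsCyclic S
  · haveI := normal_of_cyclic T S hO hsc hcyc
    exact fun t _ htX => by rwa [normalClosure_eq_self] at htX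
  obtain ⟨m, hm, ⟨e⟩⟩ : ∃ m, 1 ≤ m ∧ Nonempty (S ≃* QuaternionGroup (2 ^ m)) := by
    have hkey : ∀ H : Subgroup S, Nat.card H = 2 → H = zpowers (⟨z, hzS⟩ : S) := fun H hH => by
      obtain ⟨w, hw, hwo⟩ := exists_invol_mem (H := H) (by rw [hH]; exact even_two)
      have hwz : w = ⟨z, hzS⟩ := Subtype.ext (huniq w w.2 (by rw [Subgroup.orderOf_coe]; exact hwo))
      refine (eq_of_le_of_card_ge (zpowers_le.2 (hwz ▸ hw)) ?_).symm
      rw [hH, Nat.card_zpowers, Subgroup.orderOf_mk, hzo]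
    rcases Cfsg.Agent.S0016.result 2 hS2 (fun H K hH hK => (hkey H hH).trans (hkey K hK).symm) with
      h | ⟨-, m, hm⟩
    · exact absurd h hcyc
    · refine ⟨m, Nat.pos_of_ne_zero fun h0 => ?_, hm⟩
      subst h0
      obtain ⟨e⟩ := hm
      haveI : IsCyclic (QuaternionGroup (2 ^ 0)) := QuaternionGroup.quaternionGroup_one_isCyclic
      exact hcyc (isCyclic_of_surjective e.symm.toMonoidHom e.symm.surjective)
  haveI : NeZero (2 ^ m) := ⟨pow_ne_zero _ two_ne_zero⟩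
  have hm2 : 2 ≤ 2 ^ m := le_trans (by norm_num) (Nat.pow_le_pow_right (show 0 < 2 by norm_num) hm)
  have hcenS : ∀ c ∈ S, (∀ s ∈ S, Commute c s) → c ∈ zpowers z := fun c hc hcom => by
    have h1 := quaternion_center_sq hm2 (x := e ⟨c, hc⟩) fun y => by
      obtain ⟨s, rfl⟩ := e.surjective y
      exact (show Commute (⟨c, hc⟩ : S) s from Subtype.ext (hcom s s.2).eq).map e
    rw [← map_mul, MulEquiv.map_eq_one_iff] at h1
    by_cases hc1 : c = 1
    · rw [hc1]; exact one_mem _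
    · exact (huniq c hc (invol_iff.2 ⟨congrArg Subtype.val h1, hc1⟩)) ▸ mem_zpowers z
  have hmod := commute_mod hO hsc hzS hzo hz huniq hcenS
  obtain ⟨A, _, Φ, hΦS, hΦinv, hΦker⟩ := exists_invariant_class hsc hm e
  set X := normalClosure (S : Set G) with hX
  haveI hXn : X.Normal := normalClosure_normal
  set R := (T : Subgroup G).subgroupOf X with hR
  have hRodd : Odd R.index := by
    rw [← Nat.not_even_iff_odd, even_iff_two_dvd]
    exact fun h2 => T.not_dvd_index (h2.trans (CfsgLib.ProdFusion.relIndex_dvd_of_normal (T : Subgroup G) X))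
  haveI : R.FiniteIndex := ⟨index_ne_zero_of_finite⟩
  let χ : R →* A := Φ.comp
    { toFun := fun r => (⟨((r : X) : G), r.2⟩ : (T : Subgroup G))
      map_one' := rfl
      map_mul' := fun _ _ => rfl }
  have hdec : ∀ t ∈ (T : Subgroup G), t ∈ X →
      ∃ s ∈ S, ∃ c ∈ (T : Subgroup G) ⊓ centralizer (S : Set G), c ∈ X ∧ t = s * c := by
    intro t ht htX
    have hV : ∀ x, MonoidHom.transfer χ x = 1 := eq_one_on_normalClosure _ fun s hs g hm =>
      CfsgLib.Tight.transfer_eq_one χ fun g₀ k hmem => by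
        have hT : (g₀ : G)⁻¹ * (g * s * g⁻¹) ^ k * (g₀ : G) ∈ (T : Subgroup G) := hmem
        have e1 : (g₀ : G)⁻¹ * (g * s * g⁻¹) ^ k * (g₀ : G) = ((g₀ : G)⁻¹ * g) * s ^ k * ((g₀ : G)⁻¹ * g)⁻¹ := by
          rw [conj_pow]; group
        refine hΦS _ ?_
        show (g₀ : G)⁻¹ * (g * s * g⁻¹) ^ k * (g₀ : G) ∈ S
        rw [e1] at hT ⊢
        exact hsc.2 _ (pow_mem hs k) _ hT
    have h1 := hV ⟨t, htX⟩
    rw [transfer_eq_pow_of_terms χ (a := Φ ⟨t, ht⟩) fun g₀ k hmem => by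
      have hmem' : (g₀ : G)⁻¹ * t ^ k * (g₀ : G)⁻¹⁻¹ ∈ (T : Subgroup G) := by rw [inv_inv]; exact hmem
      rw [← map_pow, ← hΦinv ((g₀ : G))⁻¹ (⟨t, ht⟩ ^ k) hmem']
      exact congrArg Φ (Subtype.ext (show (g₀ : G)⁻¹ * t ^ k * (g₀ : G) = (g₀ : G)⁻¹ * t ^ k * (g₀ : G)⁻¹⁻¹ by
        rw [inv_inv]))] at h1
    obtain ⟨i, hi⟩ := T.2 ⟨t, ht⟩
    have h2 : Φ ⟨t, ht⟩ = 1 := eq_one_of_pow_odd hRodd h1 (k := i) (by rw [← map_pow, hi, map_one])
    obtain ⟨s, hs, hc⟩ := hΦker _ h2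
    exact ⟨s, hs, s⁻¹ * t, mem_inf.2 ⟨mul_mem (inv_mem (hsc.1 hs)) ht, hc⟩, mul_mem (inv_mem (subset_normalClosure hs)) htX,
      (mul_inv_cancel_left s t).symm⟩
  -- second transfer: modulo `S`
  haveI hSR : ((S.subgroupOf X).subgroupOf R).Normal := ⟨fun a ha b => by
    show ((b : X) : G) * ((a : X) : G) * ((b : X) : G)⁻¹ ∈ S
    exact hsc.2 _ ha _ (mul_mem (mul_mem b.2 (hsc.1 ha)) (inv_mem b.2))⟩
  set M := (S.subgroupOf X).subgroupOf R
  have hZS : zpowers z ≤ S := zpowers_le.2 hzS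
  have hcentral : ∀ w ∈ zpowers z, ∀ g : G, g * w = w * g := fun w hw g => mem_center_iff.1 (zpowers_le.2 hz hw) g
  letI : CommGroup (R ⧸ M) := CommGroup.mk fun a b => by
    obtain ⟨a, rfl⟩ := QuotientGroup.mk'_surjective M a
    obtain ⟨b, rfl⟩ := QuotientGroup.mk'_surjective M b
    rw [← map_mul, ← map_mul]
    refine QuotientGroup.eq.2 ?_
    show (((a : X) : G) * (b : X))⁻¹ * (((b : X) : G) * (a : X)) ∈ S
    obtain ⟨s₁, hs₁, c₁, hc₁, hc₁X, e₁⟩ := hdec ((a : X) : G) a.2 (a : X).2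
    obtain ⟨s₂, hs₂, c₂, hc₂, hc₂X, e₂⟩ := hdec ((b : X) : G) b.2 (b : X).2
    have hcs : ∀ s ∈ S, ∀ c ∈ centralizer (S : Set G), c * s = s * c := fun s hs c hc =>
      (mem_centralizer_iff.1 hc s hs).symm
    rw [e₁, e₂, show (s₁ * c₁ * (s₂ * c₂))⁻¹ * (s₂ * c₂ * (s₁ * c₁)) =
      (s₁ * (c₁ * s₂) * c₂)⁻¹ * (s₂ * (c₂ * s₁) * c₁) by group, hcs s₂ hs₂ c₁ hc₁.2, hcs s₁ hs₁ c₂ hc₂.2]
    set sb := (s₁ * s₂)⁻¹ * (s₂ * s₁) with hsb
    have hsbS : sb ∈ S := mul_mem (inv_mem (mul_mem hs₁ hs₂)) (mul_mem hs₂ hs₁)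
    rw [show (s₁ * (s₂ * c₁) * c₂)⁻¹ * (s₂ * (s₁ * c₂) * c₁) = (c₁ * c₂)⁻¹ * sb * (c₂ * c₁) by rw [hsb]; group,
      hcs sb hsbS _ (inv_mem (mul_mem hc₁.2 hc₂.2)), mul_assoc]
    refine mul_mem hsbS (hZS ?_)
    have h3 := hmod c₁ hc₁X c₂ hc₂
    have h4 : (c₁ * c₂)⁻¹ * (c₂ * c₁) = c₂⁻¹ * (c₁⁻¹ * c₂ * c₁ * c₂⁻¹) * c₂ := by group
    rw [h4, mul_assoc, ← hcentral _ h3 c₂, inv_mul_cancel_left]
    exact h3
  intro t ht htX
  obtain ⟨s, hs, c, hc, hcX, rfl⟩ := hdec t ht htX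
  refine mul_mem hs ?_
  let μ : R →* R ⧸ M := QuotientGroup.mk' M
  have hV : ∀ x, MonoidHom.transfer μ x = 1 := eq_one_on_normalClosure _ fun w hw g hm =>
    CfsgLib.Tight.transfer_eq_one μ fun g₀ k hmem => by
      have hT : (g₀ : G)⁻¹ * (g * w * g⁻¹) ^ k * (g₀ : G) ∈ (T : Subgroup G) := hmem
      refine (QuotientGroup.eq_one_iff _).2 ?_
      show (g₀ : G)⁻¹ * (g * w * g⁻¹) ^ k * (g₀ : G) ∈ S
      have e1 : (g₀ : G)⁻¹ * (g * w * g⁻¹) ^ k * (g₀ : G) = ((g₀ : G)⁻¹ * g) * w ^ k * ((g₀ : G)⁻¹ * g)⁻¹ := by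
        rw [conj_pow]; group
      rw [e1] at hT ⊢
      exact hsc.2 _ (pow_mem hw k) _ hT
  have hcR : (⟨c, hcX⟩ : X) ∈ R := hc.1
  have h1 := hV ⟨c, hcX⟩
  rw [CfsgLib.Tight.transfer_eq_pow μ (a := μ ⟨⟨c, hcX⟩, hcR⟩) fun g₀ => by
    have h2 := hmod (g₀ : G) g₀.2 c hc
    have hmem : (g₀ : G)⁻¹ * c * (g₀ : G) ∈ (T : Subgroup G) := by
      simpa using mul_mem (hsc.1 (hZS h2)) hc.1
    refine ⟨hmem, QuotientGroup.eq.2 ?_⟩
    show ((g₀ : G)⁻¹ * c * (g₀ : G))⁻¹ * c ∈ S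
    have h3 := inv_mem h2
    rw [show ((g₀ : G)⁻¹ * c * (g₀ : G))⁻¹ * c =
      c⁻¹ * (((g₀ : G)⁻¹ * c * (g₀ : G) * c⁻¹)⁻¹ * c) by group, ← hcentral _ h3 c, inv_mul_cancel_left]
    exact hZS h3] at h1
  obtain ⟨i, hi⟩ := T.2 ⟨c, hc.1⟩
  have h5 : μ ⟨⟨c, hcX⟩, hcR⟩ = 1 :=
    eq_one_of_pow_odd hRodd h1 (k := i) (by
      rw [← map_pow]
      convert map_one μ
      exact Subtype.ext (Subtype.ext (congrArg Subtype.val hi :)))
  exact show c ∈ S from (QuotientGroup.eq_one_iff (⟨⟨c, hcX⟩, hcR⟩ : R)).1 h5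

end CfsgLib.SECrit.Closure
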