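import Cfsg.Agent.Lib.Invol.SECriterion.Closure.Basic

/-!
# Killing the odd core of the core
-/

set_option autoImplicit false

namespace CfsgLib.SECrit.Closure

open Subgroup CfsgLib.Invol

universe u

variable {G : Type u} [Group G] [Finite G]

/-- Two involutions in `S`. -/
def TwoInvol (S : Subgroup G) : Prop := ∃ a ∈ S, ∃ b ∈ S, orderOf a = 2 ∧ orderOf b = 2 ∧ a ≠ b

omit [Finite G] in
theorem TwoInvol.map {S : Subgroup G} (h : TwoInvol S) {G' : Type*} [Group G'] (f : G →* G')
    (hinj : ∀ s ∈ S, f s = 1 → s = 1) : TwoInvol (S.map f) := by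
  obtain ⟨a, ha, b, hb, hao, hbo, hab⟩ := h
  have ho : ∀ x ∈ S, orderOf x = 2 → orderOf (f x) = 2 := fun x hx hxo => invol_iff.2
    ⟨by rw [← map_mul, invol_mul_self hxo, map_one], fun e => invol_ne_one hxo (hinj x hx e)⟩
  exact ⟨f a, mem_map_of_mem f ha, f b, mem_map_of_mem f hb, ho a ha hao, ho b hb hbo, fun e => hab
    (inv_mul_eq_one.1 (hinj _ (mul_mem (inv_mem ha) hb) (by rw [map_mul, map_inv, e, inv_mul_cancel])))⟩

/-- Elements of the normal closure of `S` in `H` conjugated into `H` only from inside `H`. -/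
def Emb (S H : Subgroup G) : Prop :=
  ∀ t g : G, t ∈ normalClosure (S : Set G) → t ∈ H → orderOf t = 2 → g ∈ normalClosure (S : Set G) →
    g * t * g⁻¹ ∈ H → g ∈ H

variable {T : Sylow 2 G} {S H : Subgroup G}

theorem SCSet.stronglyEmbedded (h : SCSet T S H) (he : Emb S H) :
    Cfsg.IsStronglyEmbedded ((H ⊓ normalClosure (S : Set G)).subgroupOf (normalClosure (S : Set G))) := by
  rw [inf_subgroupOf_right]
  obtain ⟨z, hzS, hc⟩ := h.exists_crit
  refine subgroupOf_of_mem (fun hle => h.ne_top (eq_top_iff.2 fun g _ => ?_))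
    ⟨z, subset_normalClosure hzS, h.le hzS, hc.invol⟩ fun t g htL htH ht hgL hg => he t g htL htH ht hgL hg
  exact hc.fuse g (hle (normalClosure_normal.conj_mem z (subset_normalClosure hzS) g))

/-- An odd normal subgroup inside `H` may be factored out. -/
theorem SCSet.quotient (h : SCSet T S H) (W : Subgroup G) [W.Normal] (hW : Odd (Nat.card W)) (hWH : W ≤ H) :
    ∃ T' : Sylow 2 (G ⧸ W), (T' : Subgroup (G ⧸ W)) = (T : Subgroup G).map (QuotientGroup.mk' W) ∧
      SCSet T' (S.map (QuotientGroup.mk' W)) (H.map (QuotientGroup.mk' W)) ∧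
      (Emb (S.map (QuotientGroup.mk' W)) (H.map (QuotientGroup.mk' W)) → Emb S H) := by
  haveI : Fact (Nat.Prime 2) := ⟨Nat.prime_two⟩
  obtain ⟨z, hzS, hc⟩ := h.exists_crit
  set π := QuotientGroup.mk' W with hπ
  have hsurj : Function.Surjective π := QuotientGroup.mk'_surjective W
  have hker : π.ker ≤ H := by rw [hπ, QuotientGroup.ker_mk']; exact hWH
  have hmem : ∀ g : G, π g ∈ H.map π ↔ g ∈ H := fun g => by
    rw [← mem_comap, comap_map_eq_self hker]
  have hodd : ∀ g : G, g ∈ W → ∀ k : ℕ, g ^ 2 ^ k = 1 → g = 1 := fun g hg k hk =>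
    eq_one_of_odd_of_pow_two (hW.of_dvd_nat (Subgroup.orderOf_dvd_natCard W hg)) hk
  refine ⟨T.mapSurjective hsurj, Sylow.coe_mapSurjective hsurj T, ⟨?_, ?_, ?_, ?_, ?_⟩, ?_⟩
  · intro e
    have h1 : π z = 1 := mem_bot.1 (e ▸ mem_map_of_mem π hzS)
    exact invol_ne_one hc.invol (hodd z ((QuotientGroup.eq_one_iff z).1 h1) 1 (by
      rw [pow_one, pow_two, invol_mul_self hc.invol]))
  · intro e
    refine h.ne_top ?_
    rw [← comap_map_eq_self hker, e, comap_top]
  · rw [Sylow.coe_mapSurjective hsurj T]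
    exact Cfsg.Agent.S1250.result T S h.closed W
  · rintro _ ⟨s, hs, rfl⟩ hne x hx
    obtain ⟨g, rfl⟩ := hsurj x
    rw [hmem]
    refine h.fuse hs (fun e => hne (by rw [e, map_one])) ((hmem _).1 ?_)
    rw [map_mul, map_mul, map_inv, mem_centralizer_singleton_iff.1 hx, mul_inv_cancel_right]
    exact mem_map_of_mem π (h.le hs)
  · intro x hx
    obtain ⟨g, rfl⟩ := hsurj x
    rw [hmem]
    refine hc.fuse g ((hmem _).1 ?_)
    rw [Sylow.coe_mapSurjective hsurj T] at hx
    rw [map_mul, map_mul, map_inv]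
    exact map_mono (f := π) h.sylow_le ((mem_normalizer_iff.1 hx _).1 (mem_map_of_mem π (h.closed.1 hzS)))
  · intro he t g htX htH ht hgX hg
    have hX : (normalClosure (S : Set G)).map π = normalClosure ((S.map π : Subgroup (G ⧸ W)) : Set (G ⧸ W)) := by
      rw [map_normalClosure _ π hsurj, coe_map]
    have hto : orderOf (π t) = 2 := orderOf_eq_prime
      (by rw [← map_pow, ← ht, pow_orderOf_eq_one, map_one])
      (fun e => invol_ne_one ht (hodd t ((QuotientGroup.eq_one_iff t).1 e) 1 (by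
        rw [pow_one, pow_two, invol_mul_self ht])))
    exact (hmem g).1 (he (π t) (π g) (hX ▸ mem_map_of_mem π htX) ((hmem t).2 htH) hto
      (hX ▸ mem_map_of_mem π hgX) (by rw [← map_inv, ← map_mul, ← map_mul, hmem]; exact hg))

/-- **An odd normal subgroup in `H` leaves a core with trivial odd core.** -/
theorem SCSet.exists_reduced (h : SCSet T S H) (hpair : TwoInvol S) :
    ∃ (W : Subgroup G) (_ : W.Normal) (T' : Sylow 2 (G ⧸ W)), Odd (Nat.card W) ∧
      (T' : Subgroup (G ⧸ W)) = (T : Subgroup G).map (QuotientGroup.mk' W) ∧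
      SCSet T' (S.map (QuotientGroup.mk' W)) (H.map (QuotientGroup.mk' W)) ∧
      Cfsg.oddCore ↥(H.map (QuotientGroup.mk' W)).normalCore = ⊥ ∧
      TwoInvol (S.map (QuotientGroup.mk' W)) ∧
      (Emb (S.map (QuotientGroup.mk' W)) (H.map (QuotientGroup.mk' W)) → Emb S H) := by
  haveI := normalCore_normal H
  set C := H.normalCore with hC
  set W := (Cfsg.oddCore C).map C.subtype with hWdef
  haveI : (Cfsg.oddCore C).Characteristic := CfsgLib.Coprime.pPrimeCore_characteristic 2
  haveI : W.Normal := inferInstance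
  have hWC : W ≤ C := map_subtype_le _
  have hWodd : Odd (Nat.card W) := by
    rw [hWdef, card_map_of_injective C.subtype_injective]
    exact Nat.coprime_two_right.1 (CfsgLib.Coprime.pPrimeCore_coprime Nat.prime_two)
  obtain ⟨T', hT', h', hback⟩ := h.quotient W hWodd (hWC.trans H.normalCore_le)
  refine ⟨W, inferInstance, T', hWodd, hT', h', ?_, hpair.map (QuotientGroup.mk' W) (fun s hs hsW => ?_), hback⟩
  swap
  · obtain ⟨k, hk⟩ := T.2 ⟨s, h.closed.1 hs⟩
    exact eq_one_of_odd_of_pow_two (hWodd.of_dvd_nat (Subgroup.orderOf_dvd_natCard W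
      ((QuotientGroup.eq_one_iff s).1 hsW))) (congrArg Subtype.val hk)
  set π := QuotientGroup.mk' W with hπ
  set C' := (H.map π).normalCore with hC'
  haveI := normalCore_normal (H.map π)
  have hcomap : C'.comap π ≤ C := by
    refine normal_le_normalCore.2 fun g hg => ?_
    have := (H.map π).normalCore_le hg
    rwa [← mem_comap, comap_map_eq_self (by rw [hπ, QuotientGroup.ker_mk']; exact hWC.trans H.normalCore_le)] at this
  set O := (Cfsg.oddCore C').map C'.subtype with hO
  haveI : (Cfsg.oddCore C').Characteristic := CfsgLib.Coprime.pPrimeCore_characteristic 2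
  haveI : O.Normal := inferInstance
  have hOC : O.comap π ≤ C := (comap_mono (map_subtype_le _)).trans hcomap
  have hker : π.ker ≤ O.comap π := fun g hg => by
    rw [mem_comap, MonoidHom.mem_ker.1 hg]; exact one_mem O
  have hodd : Odd (Nat.card ((O.comap π).subgroupOf C)) := by
    rw [Nat.card_congr (subgroupOfEquivOfLe hOC).toEquiv]
    have e := card_mul_index (O.comap π)
    rw [index_comap_of_surjective _ (QuotientGroup.mk'_surjective W), ← card_mul_index W] at e
    have e2 : W.index = Nat.card O * O.index := (card_mul_index O).symm ▸ rfl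
    rw [e2, ← mul_assoc] at e
    rw [Nat.eq_of_mul_eq_mul_right (Nat.pos_of_ne_zero index_ne_zero_of_finite) e]
    refine hWodd.mul ?_
    rw [hO, card_map_of_injective C'.subtype_injective]
    exact Nat.coprime_two_right.1 (CfsgLib.Coprime.pPrimeCore_coprime Nat.prime_two)
  have hle : (O.comap π).subgroupOf C ≤ Cfsg.oddCore C :=
    CfsgLib.Coprime.le_pPrimeCore (Nat.coprime_two_right.2 hodd)
  rw [eq_bot_iff]
  intro x hx
  obtain ⟨g, hg⟩ := QuotientGroup.mk'_surjective W (x : G ⧸ W)
  have hgO : g ∈ O.comap π := by rw [mem_comap, hπ, hg]; exact mem_map_of_mem C'.subtype hx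
  have hgW : g ∈ W := ⟨⟨g, hOC hgO⟩, hle hgO, rfl⟩
  refine mem_bot.2 (Subtype.ext ?_)
  rw [← hg]
  exact (QuotientGroup.eq_one_iff g).2 hgW

end CfsgLib.SECrit.Closure
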