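import Cfsg.Agent.Lib.Invol.SECriterion.Shape.Rank
import Cfsg.Agent.Lib.Invol.SECriterion.Cube.Regular
import Mathlib.GroupTheory.GroupAction.Quotient

/-!
# The regular two-group of a strongly embedded subgroup: squares and involutions; derangements
-/

set_option autoImplicit false

namespace CfsgLib.SECrit

open Subgroup CfsgLib.Invol

universe u

variable {G : Type u} [Group G] [Finite G]

/-- A transitive group on more than one point has an element fixing none. -/
theorem exists_fixedPointFree {X : Type*} [MulAction G X] [Finite X] [MulAction.IsPretransitive G X]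
    (hX : 1 < Nat.card X) : ∃ g : G, ∀ x : X, g • x ≠ x := by
  classical
  letI := Fintype.ofFinite G
  letI := Fintype.ofFinite X
  by_contra hh
  push Not at hh
  haveI : Nonempty X := (Nat.card_pos_iff.1 (by omega)).1
  haveI : Subsingleton (Quotient (MulAction.orbitRel G X)) :=
    MulAction.pretransitive_iff_subsingleton_quotient G X |>.1 inferInstance
  haveI : Nonempty (Quotient (MulAction.orbitRel G X)) := ⟨⟦Classical.arbitrary X⟧⟩
  have h1 := MulAction.sum_card_fixedBy_eq_card_orbits_mul_card_group G X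
  rw [show Fintype.card (Quotient (MulAction.orbitRel G X)) = 1 from
    Fintype.card_eq_one_iff.2 ⟨Classical.arbitrary _, fun b => Subsingleton.elim _ _⟩, one_mul,
    ← Finset.card_univ (α := G), Finset.card_eq_sum_ones] at h1
  refine h1.not_gt (Finset.sum_lt_sum (fun g _ => ?_) ⟨1, Finset.mem_univ _, ?_⟩)
  · obtain ⟨x, hx⟩ := hh g
    exact Fintype.card_pos_iff.2 ⟨⟨x, hx⟩⟩
  · rw [← Nat.card_eq_fintype_card]
    refine lt_of_lt_of_le hX (le_of_eq ?_)
    exact (Nat.card_congr ((Equiv.setCongr (show MulAction.fixedBy X (1 : G) = Set.univ by simp)).trans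
      (Equiv.Set.univ X))).symm

namespace Shape.Data

variable {H Q : Subgroup G} (h : Shape.Data H Q)
include h

/-- **Squares are involutions and involutions are central in `Q`.** -/
theorem sq_central : (∀ v ∈ Q, v * v * (v * v) = 1) ∧ ∀ e ∈ Q, e * e = 1 → ∀ v ∈ Q, Commute e v := by
  haveI : Fact (Nat.Prime 2) := ⟨Nat.prime_two⟩
  obtain ⟨t, hS⟩ := h.exists_setup
  haveI : FaithfulSMul G (G ⧸ H) := ⟨fun {g₁ g₂} hg => by
    refine inv_mul_eq_one.1 (h.faithful fun b => ?_)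
    rw [mul_smul, ← hg, inv_smul_smul]⟩
  obtain ⟨S, hS'⟩ : ∃ S : Sylow 2 Q, (S : Subgroup Q) = ⊤ :=
    ⟨⟨⊤, h.two.to_subgroup ⊤ |>.of_equiv (MulEquiv.refl _), fun _ hle => le_antisymm le_top hle⟩, rfl⟩
  rcases Cfsg.Agent.S1132.result hS h.pair_mul S with hab | hsuz
  · have hc : ∀ a ∈ Q, ∀ b ∈ Q, a * b = b * a := fun a ha b hb =>
      congrArg (fun t : (S : Subgroup Q) => ((t : Q) : G))
        (hab.is_comm.comm (⟨⟨a, ha⟩, hS' ▸ mem_top _⟩ : (S : Subgroup Q)) ⟨⟨b, hb⟩, hS' ▸ mem_top _⟩)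
    refine ⟨fun v hv => ?_, fun e he _ v hv => hc e he v hv⟩
    have hall : ∀ x : Q, x * x = 1 := by
      by_contra hh
      push Not at hh
      obtain ⟨x, hx⟩ := hh
      have hlt := Finite.card_subtype_lt (p := fun y : Q => y * y = 1) hx
      rw [← h.sq_eq_one_of_comm hc] at hlt
      exact lt_irrefl _ hlt
    exact congrArg Subtype.val (hall ⟨v * v, mul_mem hv hv⟩)
  · obtain ⟨hinv, hcen⟩ := Cfsg.Agent.S1137.result hsuz
    obtain ⟨hsq, -, -, -⟩ := Cfsg.Agent.S1138.result hsuz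
    refine ⟨fun v hv => congrArg (fun t : (S : Subgroup Q) => ((t : Q) : G))
      (hcen _ (hsq ⟨⟨v, hv⟩, hS' ▸ mem_top _⟩)), fun e he he2 v hv => ?_⟩
    by_cases h1 : e = 1
    · rw [h1]; exact Commute.one_left v
    have h2 := ((hinv ⟨⟨e, he⟩, hS' ▸ mem_top _⟩).1 ⟨fun e1 => h1 (congrArg
      (fun t : (S : Subgroup Q) => ((t : Q) : G)) e1), Subtype.ext (Subtype.ext he2)⟩).1
    exact (congrArg (fun t : (S : Subgroup Q) => ((t : Q) : G))
      (mem_center_iff.1 h2 ⟨⟨v, hv⟩, hS' ▸ mem_top _⟩)).symm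

/-- Commutators are involutions. -/
theorem comm_sq {v w : G} (hv : v ∈ Q) (hw : w ∈ Q) :
    v⁻¹ * w * v * w⁻¹ * (v⁻¹ * w * v * w⁻¹) = 1 := by
  obtain ⟨hsq, hcen⟩ := h.sq_central
  have hc : ∀ {u : G}, u ∈ Q → ∀ {y : G}, y ∈ Q → Commute (u * u) y := fun hu _ hy =>
    hcen _ (mul_mem hu hu) (hsq _ hu) _ hy
  -- the commutator is a product of squares
  have e : v⁻¹ * w * v * w⁻¹ = (v⁻¹ * v⁻¹) * (v * w * (v * w)) * (w⁻¹ * w⁻¹) := by group
  have hvi := inv_mem hv
  have hwi := inv_mem hw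
  have hvw := mul_mem hv hw
  rw [e, Commute.mul_mul_mul_comm (((hc hwi (mul_mem hvi hvi)).mul_right (hc hwi (mul_mem hvw hvw)))),
    Commute.mul_mul_mul_comm (hc hvw (mul_mem hvi hvi)), hsq _ hvi, hsq _ hvw, hsq _ hwi, one_mul, one_mul]

end Shape.Data

end CfsgLib.SECrit
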