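import Cfsg.Agent.Lib.Invol.SECriterion.Closure.Basic
import Cfsg.Agent.Lib.Invol.SECriterion.Closure.Suz
import Mathlib.GroupTheory.Perm.Cycle.Type

/-!
# The strongly closed subgroup lies in the regular two-group
-/

set_option autoImplicit false

namespace CfsgLib.SECrit.Closure

open Subgroup CfsgLib.Invol

universe u

variable {G : Type u} [Group G] [Finite G]

/-- `L` is normal with a regular two-group `Q` at the point of `H`. -/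
structure Top (T : Sylow 2 G) (S H L Q : Subgroup G) : Prop where
  normal : L.Normal
  sylow_le : (T : Subgroup G) ≤ H
  closed : Cfsg.IsStronglyClosed S (T : Subgroup G)
  fuse : ∀ s ∈ S, s ≠ 1 → ∀ g : G, g * s * g⁻¹ ∈ H → g ∈ H
  exists_out : ∃ c : G, c ∉ H
  le : Q ≤ H ⊓ L
  two : IsPGroup 2 Q
  norm : H ≤ normalizer (Q : Set G)
  mem_two : ∀ g ∈ H, g ∈ L → ∀ k : ℕ, g ^ 2 ^ k = 1 → g ∈ Q
  exists_reg : ∀ g k : G, g ∉ H → k ∉ H → ∃ x ∈ Q, k⁻¹ * (x * g) ∈ H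
  sq : ∀ v ∈ Q, v * v * (v * v) = 1
  comm_sq : ∀ v ∈ Q, ∀ w ∈ Q, v⁻¹ * w * v * w⁻¹ * (v⁻¹ * w * v * w⁻¹) = 1
  central : ∀ e ∈ Q, e * e = 1 → ∀ v ∈ Q, Commute e v
  invol_mem : ∀ e ∈ Q, e * e = 1 → e ∈ S
  invol_trans : ∀ e ∈ Q, ∀ f ∈ Q, orderOf e = 2 → orderOf f = 2 → ∃ a ∈ H ⊓ L, a * e * a⁻¹ = f
  pair : 1 < Nat.card {e : G // e ∈ Q ∧ orderOf e = 2}

variable {T : Sylow 2 G} {S H L Q : Subgroup G} (h : Top T S H L Q)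
include h

theorem Top.Q_le_T : Q ≤ (T : Subgroup G) := by
  haveI : Fact (Nat.Prime 2) := ⟨Nat.prime_two⟩
  exact (T.3 (T.2.to_sup_of_normal_right' h.two (h.sylow_le.trans h.norm)) le_sup_left) ▸ le_sup_right

theorem Top.conj_mem {g v : G} (hg : g ∈ H) (hv : v ∈ Q) : g * v * g⁻¹ ∈ Q :=
  (mem_normalizer_iff.1 (h.norm hg) v).1 hv

/-- `S ∩ Q` is invariant under `H`. -/
theorem Top.conj_mem_inf {g v : G} (hg : g ∈ H) (hv : v ∈ S ⊓ Q) : g * v * g⁻¹ ∈ S ⊓ Q :=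
  ⟨h.closed.2 v hv.1 g (h.Q_le_T (h.conj_mem hg hv.2)), h.conj_mem hg hv.2⟩

/-- An element of `H ∩ L` fixing a further point and fixing no non-trivial element of `Q`. -/
theorem Top.exists_free {c : G} (hc : c ∉ H) :
    ∃ k ∈ H ⊓ L, c⁻¹ * k * c ∈ H ∧ ∀ v ∈ Q, k * v * k⁻¹ = v → v = 1 := by
  classical
  haveI : Fact (Nat.Prime 2) := ⟨Nat.prime_two⟩
  let X := {e : G // e ∈ Q ∧ orderOf e = 2}
  letI : MulAction (H ⊓ L : Subgroup G) X :=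
    { smul := fun a e => ⟨(a : G) * e.1 * (a : G)⁻¹, h.conj_mem (mem_inf.1 a.2).1 e.2.1, invol_conj e.2.2 _⟩
      one_smul := fun e => Subtype.ext (show ((1 : (H ⊓ L : Subgroup G)) : G) * e.1 *
        ((1 : (H ⊓ L : Subgroup G)) : G)⁻¹ = e.1 by simp)
      mul_smul := fun a b e => Subtype.ext (show ((a * b : (H ⊓ L : Subgroup G)) : G) * e.1 *
        ((a * b : (H ⊓ L : Subgroup G)) : G)⁻¹ = (a : G) * ((b : G) * e.1 * (b : G)⁻¹) * (a : G)⁻¹ by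
          simp [mul_assoc]) }
  haveI : MulAction.IsPretransitive (H ⊓ L : Subgroup G) X := ⟨fun e f => by
    obtain ⟨a, ha, hae⟩ := h.invol_trans e.1 e.2.1 f.1 f.2.1 e.2.2 f.2.2
    exact ⟨⟨a, ha⟩, Subtype.ext hae⟩⟩
  obtain ⟨⟨k₀, hk₀⟩, hfree⟩ := exists_fixedPointFree (G := (H ⊓ L : Subgroup G)) (X := X) h.pair
  have hout : k₀ * c ∉ H := fun e => hc ((mul_mem_cancel_left (mem_inf.1 hk₀).1).1 e)
  obtain ⟨x, hx, hxc⟩ := h.exists_reg (k₀ * c) c hout hc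
  refine ⟨x * k₀, mul_mem (h.le hx) hk₀, by rwa [show c⁻¹ * (x * k₀) * c = c⁻¹ * (x * (k₀ * c)) by group],
    fun v hv hkv => ?_⟩
  by_contra hv1
  obtain ⟨n, hn⟩ := h.two ⟨v, hv⟩
  obtain ⟨i, hi⟩ := exists_pow_invol (congrArg Subtype.val hn : v ^ 2 ^ n = 1) hv1
  refine hfree ⟨v ^ i, pow_mem hv i, hi⟩ (Subtype.ext ?_)
  show k₀ * v ^ i * k₀⁻¹ = v ^ i
  have h1 : x * k₀ * v ^ i * (x * k₀)⁻¹ = v ^ i := by rw [← conj_pow, hkv]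
  have h2 := h.central (v ^ i) (pow_mem hv i) (invol_mul_self hi) x hx
  calc k₀ * v ^ i * k₀⁻¹ = x⁻¹ * (x * k₀ * v ^ i * (x * k₀)⁻¹) * x := by group
    _ = x⁻¹ * (x * v ^ i) := by rw [h1, mul_assoc, h2.eq]
    _ = v ^ i := inv_mul_cancel_left x _

/-- An element of `H` fixing no element of `Q` fixes none modulo `S ∩ Q`. -/
theorem Top.mem_of_free {k : G} (hk : k ∈ H) (hkfree : ∀ v ∈ Q, k * v * k⁻¹ = v → v = 1) {v : G} (hv : v ∈ Q)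
    (hvM : v⁻¹ * (k * v * k⁻¹) ∈ S ⊓ Q) : v ∈ S ⊓ Q := by
  let f : (S ⊓ Q : Subgroup G) → (S ⊓ Q : Subgroup G) := fun m =>
    ⟨(m : G)⁻¹ * (k * m * k⁻¹), mul_mem (inv_mem m.2) (h.conj_mem_inf hk m.2)⟩
  have key : ∀ a ∈ Q, ∀ b ∈ Q, a⁻¹ * (k * a * k⁻¹) = b⁻¹ * (k * b * k⁻¹) → a = b := fun a ha b hb e => by
    have h1 := hkfree (b * a⁻¹) (mul_mem hb (inv_mem ha)) (by
      calc k * (b * a⁻¹) * k⁻¹ = (k * b * k⁻¹) * (k * a * k⁻¹)⁻¹ := by group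
        _ = b * (b⁻¹ * (k * b * k⁻¹)) * (a⁻¹ * (k * a * k⁻¹))⁻¹ * a⁻¹ := by group
        _ = b * a⁻¹ := by rw [e, mul_inv_cancel_right])
    exact (mul_inv_eq_one.1 h1).symm
  have hfinj : Function.Injective f := fun a b e => Subtype.ext
    (key a (mem_inf.1 a.2).2 b (mem_inf.1 b.2).2 (congrArg Subtype.val e))
  obtain ⟨m, hm⟩ := Finite.surjective_of_injective hfinj ⟨_, hvM⟩
  rw [← key m (mem_inf.1 m.2).2 v hv (congrArg Subtype.val hm)]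
  exact m.2

/-- **The elements of `S` lie in `Q`.** -/
theorem Top.le_Q : S ≤ Q := by
  classical
  haveI : Fact (Nat.Prime 2) := ⟨Nat.prime_two⟩
  intro t ht
  set M := S ⊓ Q with hMdef
  have hQT := h.Q_le_T
  have htT : t ∈ (T : Subgroup G) := h.closed.1 ht
  have htH : t ∈ H := h.sylow_le htT
  obtain ⟨c, hc⟩ := h.exists_out
  have hout : t * c ∉ H := fun e => hc ((mul_mem_cancel_left htH).1 e)
  obtain ⟨u, hu, huc⟩ := h.exists_reg (t * c) c hout hc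
  set r := u * t with hr
  have hrT : r ∈ (T : Subgroup G) := mul_mem (hQT hu) htT
  by_cases hr1 : r = 1
  · rw [show t = u⁻¹ from eq_inv_of_mul_eq_one_right hr1]; exact inv_mem hu
  exfalso
  obtain ⟨j, hj⟩ := T.2 ⟨r, hrT⟩
  obtain ⟨n, hn⟩ := exists_pow_invol (congrArg Subtype.val hj : r ^ 2 ^ j = 1) hr1
  -- the involution and its parts
  have hpow : ∀ m : ℕ, ∃ u' ∈ Q, r ^ m = u' * t ^ m := by
    intro m
    induction m with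
    | zero => exact ⟨1, one_mem _, by simp⟩
    | succ m ih =>
      obtain ⟨u', hu', he⟩ := ih
      exact ⟨u * (t * u' * t⁻¹), mul_mem hu (h.conj_mem htH hu'), by rw [pow_succ', he, hr, pow_succ']; group⟩
  obtain ⟨u', hu', hru⟩ := hpow n
  set r₀ := r ^ n with hr₀
  set s' := t ^ n with hs'
  have hs'S : s' ∈ S := pow_mem ht n
  have hs'H : s' ∈ H := pow_mem htH n
  have hr₀T : r₀ ∈ (T : Subgroup G) := pow_mem hrT n
  have hr₀H : r₀ ∈ H := h.sylow_le hr₀T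
  have hr₀c : c⁻¹ * r₀ * c ∈ H := by
    have e : ∀ m : ℕ, c⁻¹ * r ^ m * c = (c⁻¹ * r * c) ^ m := fun m => by
      have := conj_pow (i := m) (a := c⁻¹) (b := r)
      rw [inv_inv] at this
      exact this.symm
    rw [hr₀, e]
    refine pow_mem ?_ _
    rwa [hr, show c⁻¹ * (u * t) * c = c⁻¹ * (u * (t * c)) by group]
  have hEM : ∀ e ∈ Q, e * e = 1 → e ∈ M := fun e he he2 => ⟨h.invol_mem e he he2, he⟩
  have hMc : ∀ {g v : G}, g ∈ H → v ∈ M → g * v * g⁻¹ ∈ M := fun hg hv => h.conj_mem_inf hg hv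
  have hQH : ∀ {v : G}, v ∈ Q → v ∈ H := fun hv => (mem_inf.1 (h.le hv)).1
  -- the involution acts trivially on `Q` modulo `M`
  have htriv : ∀ v ∈ Q, v⁻¹ * (r₀ * v * r₀⁻¹) ∈ M := by
    intro v hv
    rw [hru, show v⁻¹ * (u' * s' * v * (u' * s')⁻¹) = (v⁻¹ * u' * v * u'⁻¹) *
      (u' * (v⁻¹ * (s' * v * s'⁻¹)) * u'⁻¹) by group]
    refine mul_mem (hEM _ (mul_mem (mul_mem (mul_mem (inv_mem hv) hu') hv) (inv_mem hu'))
      (h.comm_sq v hv u' hu')) (hMc (hQH hu') (mem_inf.2 ⟨?_, mul_mem (inv_mem hv) (h.conj_mem hs'H hv)⟩))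
    rw [show v⁻¹ * (s' * v * s'⁻¹) = v⁻¹ * s' * v⁻¹⁻¹ * s'⁻¹ by group]
    exact mul_mem (h.closed.2 s' hs'S v⁻¹ (mul_mem (mul_mem (inv_mem (hQT hv)) (h.closed.1 hs'S))
      (inv_mem (inv_mem (hQT hv))))) (inv_mem hs'S)
  obtain ⟨k, hk, hkc, hkfree⟩ := h.exists_free hc
  have hinj : ∀ v ∈ Q, v⁻¹ * (k * v * k⁻¹) ∈ M → v ∈ M := fun v hv =>
    h.mem_of_free (mem_inf.1 hk).1 hkfree hv
  -- the elements of `L` at both points acting as `k`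
  let D₀ : Subgroup G :=
    { carrier := {d | d ∈ H ⊓ L ∧ c⁻¹ * d * c ∈ H ∧ ∀ v ∈ Q, v⁻¹ * (d * v * d⁻¹) ∈ M}
      one_mem' := ⟨one_mem _, by simp, fun v _ => by simp⟩
      mul_mem' := fun {a b} ha hb => ⟨mul_mem ha.1 hb.1, by
        rw [show c⁻¹ * (a * b) * c = (c⁻¹ * a * c) * (c⁻¹ * b * c) by group]; exact mul_mem ha.2.1 hb.2.1,
        fun v hv => by
          rw [show v⁻¹ * (a * b * v * (a * b)⁻¹) =
            v⁻¹ * (a * v * a⁻¹) * (a * (v⁻¹ * (b * v * b⁻¹)) * a⁻¹) by group]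
          exact mul_mem (ha.2.2 v hv) (hMc (mem_inf.1 ha.1).1 (hb.2.2 v hv))⟩
      inv_mem' := fun {a} ha => ⟨inv_mem ha.1, by
        rw [show c⁻¹ * a⁻¹ * c = (c⁻¹ * a * c)⁻¹ by group]; exact inv_mem ha.2.1, fun v hv => by
          rw [show v⁻¹ * (a⁻¹ * v * a⁻¹⁻¹) = a⁻¹ * (v⁻¹ * (a * v * a⁻¹))⁻¹ * a⁻¹⁻¹ by group]
          exact hMc (inv_mem (mem_inf.1 ha.1).1) (inv_mem (ha.2.2 v hv))⟩ }
  have hoddD : ¬ 2 ∣ Nat.card D₀ := by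
    intro h2
    obtain ⟨y, hy⟩ := exists_prime_orderOf_dvd_card' (G := D₀) 2 h2
    rw [← Subgroup.orderOf_coe] at hy
    have hyQ := h.mem_two _ (mem_inf.1 y.2.1).1 (mem_inf.1 y.2.1).2 1 (by rw [pow_one, pow_two, invol_mul_self hy])
    refine hc ?_
    have := h.fuse _ (h.invol_mem _ hyQ (invol_mul_self hy)) (invol_ne_one hy) c⁻¹ (by
      rw [inv_inv]; exact y.2.2.1)
    simpa using this
  let K := {d : G // k⁻¹ * d ∈ D₀}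
  have hK : ¬ 2 ∣ Nat.card K := by
    rwa [Nat.card_congr (⟨fun d => ⟨k⁻¹ * d.1, d.2⟩, fun d => ⟨k * d.1, by rw [inv_mul_cancel_left]; exact d.2⟩,
      fun d => Subtype.ext (mul_inv_cancel_left k d.1), fun d => Subtype.ext (inv_mul_cancel_left k d.1)⟩ : K ≃ D₀)]
  have hr₀2 : r₀ * r₀ = 1 := invol_mul_self hn
  have hKc : ∀ d : G, k⁻¹ * d ∈ D₀ → k⁻¹ * (r₀ * d * r₀⁻¹) ∈ D₀ := by
    intro d hd
    have hdHL : d ∈ H ⊓ L := by have := mul_mem hk hd.1; rwa [mul_inv_cancel_left] at this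
    have hdc : c⁻¹ * d * c ∈ H := by
      have := mul_mem hkc hd.2.1
      rwa [show c⁻¹ * k * c * (c⁻¹ * (k⁻¹ * d) * c) = c⁻¹ * d * c by group] at this
    refine ⟨mul_mem (inv_mem hk) (mem_inf.2 ⟨mul_mem (mul_mem hr₀H (mem_inf.1 hdHL).1) (inv_mem hr₀H),
      h.normal.conj_mem d (mem_inf.1 hdHL).2 r₀⟩), ?_, fun v hv => ?_⟩
    · rw [show c⁻¹ * (k⁻¹ * (r₀ * d * r₀⁻¹)) * c =
        (c⁻¹ * k * c)⁻¹ * (c⁻¹ * r₀ * c) * (c⁻¹ * d * c) * (c⁻¹ * r₀ * c)⁻¹ by group]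
      exact mul_mem (mul_mem (mul_mem (inv_mem hkc) hr₀c) hdc) (inv_mem hr₀c)
    -- `r₀ d r₀` acts as `d` modulo `M`
    have hw := mul_mem (inv_mem hr₀H) (one_mem H)
    set w := r₀⁻¹ * v * r₀⁻¹⁻¹ with hwdef
    have hwQ : w ∈ Q := h.conj_mem (inv_mem hr₀H) hv
    have m1 : v⁻¹ * w ∈ M := by
      have h1 := htriv v hv
      rwa [show w = r₀ * v * r₀⁻¹ by rw [hwdef, inv_inv, inv_eq_of_mul_eq_one_right hr₀2]]
    set p := d * w * d⁻¹ with hpdef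
    have hpQ : p ∈ Q := h.conj_mem (mem_inf.1 hdHL).1 hwQ
    have m2 : p⁻¹ * (r₀ * p * r₀⁻¹) ∈ M := htriv p hpQ
    have m3 : w⁻¹ * (k⁻¹ * d * w * (k⁻¹ * d)⁻¹) ∈ M := hd.2.2 w hwQ
    have e : v⁻¹ * (k⁻¹ * (r₀ * d * r₀⁻¹) * v * (k⁻¹ * (r₀ * d * r₀⁻¹))⁻¹) =
        v⁻¹ * w * (w⁻¹ * (k⁻¹ * d * w * (k⁻¹ * d)⁻¹)) * (k⁻¹ * (p⁻¹ * (r₀ * p * r₀⁻¹)) * k⁻¹⁻¹) := by
      rw [hpdef, hwdef]; group
    rw [e]
    exact mul_mem (mul_mem m1 m3) (hMc (inv_mem (mem_inf.1 hk).1) m2)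
  let σ : Equiv.Perm K :=
    { toFun := fun d => ⟨r₀ * d.1 * r₀⁻¹, hKc d.1 d.2⟩
      invFun := fun d => ⟨r₀ * d.1 * r₀⁻¹, hKc d.1 d.2⟩
      left_inv := fun d => Subtype.ext (show r₀ * (r₀ * d.1 * r₀⁻¹) * r₀⁻¹ = d.1 by
        rw [show r₀ * (r₀ * d.1 * r₀⁻¹) * r₀⁻¹ = (r₀ * r₀) * d.1 * (r₀ * r₀)⁻¹ by group, hr₀2]; simp)
      right_inv := fun d => Subtype.ext (show r₀ * (r₀ * d.1 * r₀⁻¹) * r₀⁻¹ = d.1 by
        rw [show r₀ * (r₀ * d.1 * r₀⁻¹) * r₀⁻¹ = (r₀ * r₀) * d.1 * (r₀ * r₀)⁻¹ by group, hr₀2]; simp) }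
  letI := Fintype.ofFinite K
  obtain ⟨⟨d, hd⟩, hdfix⟩ := Equiv.Perm.exists_fixed_point_of_prime (p := 2) (n := 1) (σ := σ)
    (by rwa [← Nat.card_eq_fintype_card]) (by
      rw [pow_one, pow_two]; exact Equiv.ext fun d => σ.left_inv d)
  have hdr : r₀ * d * r₀⁻¹ = d := congrArg Subtype.val hdfix
  have hdH : d ∈ H := by have := mul_mem (mem_inf.1 hk).1 (mem_inf.1 hd.1).1; rwa [mul_inv_cancel_left] at this
  -- the part in `Q` of the involution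
  have hs'eq : u'⁻¹ * r₀ = s' := by rw [hru, inv_mul_cancel_left]
  have hcomm : d * r₀ * d⁻¹ = r₀ := by
    have := mul_inv_eq_iff_eq_mul.1 hdr
    rw [← this, mul_inv_cancel_right]
  have hmemS : d * s' * d⁻¹ ∈ S := h.closed.2 s' hs'S d (by
    rw [← hs'eq, show d * (u'⁻¹ * r₀) * d⁻¹ = (d * u'⁻¹ * d⁻¹) * (d * r₀ * d⁻¹) by group, hcomm]
    exact mul_mem (hQT (h.conj_mem hdH (inv_mem hu'))) hr₀T)
  have hdu : d * u'⁻¹ * d⁻¹ * u' ∈ M := by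
    refine mem_inf.2 ⟨?_, mul_mem (h.conj_mem hdH (inv_mem hu')) hu'⟩
    rw [show d * u'⁻¹ * d⁻¹ * u' = (d * u'⁻¹ * d⁻¹ * r₀) * (u'⁻¹ * r₀)⁻¹ by group, hs'eq]
    refine mul_mem ?_ (inv_mem hs'S)
    rwa [show d * u'⁻¹ * d⁻¹ * r₀ = d * s' * d⁻¹ by
      rw [← hs'eq, show d * (u'⁻¹ * r₀) * d⁻¹ = (d * u'⁻¹ * d⁻¹) * (d * r₀ * d⁻¹) by group, hcomm]]
  have hu'M : u' ∈ M := by
    have hmove := hinj u'⁻¹ (inv_mem hu') ?_
    · simpa using inv_mem hmove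
    set w := u'⁻¹ with hwdef
    have hwQ : w ∈ Q := inv_mem hu'
    have m1 := hMc (mem_inf.1 hk).1 (hd.2.2 w hwQ)
    have m2 : d * w * d⁻¹ * w⁻¹ ∈ M := by rwa [hwdef, inv_inv]
    have m2' : w⁻¹ * (d * w * d⁻¹ * w⁻¹) * w⁻¹⁻¹ ∈ M := hMc (hQH (inv_mem hwQ)) m2
    have e : w⁻¹ * (k * w * k⁻¹) = w⁻¹ * (d * w * d⁻¹ * w⁻¹) * w⁻¹⁻¹ *
        (k * (w⁻¹ * (k⁻¹ * d * w * (k⁻¹ * d)⁻¹)) * k⁻¹)⁻¹ := by group
    rw [e]
    exact mul_mem m2' (inv_mem m1)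
  refine hc ?_
  have := h.fuse r₀ (hru ▸ mul_mem hu'M.1 hs'S) (invol_ne_one hn) c⁻¹ (by rw [inv_inv]; exact hr₀c)
  simpa using this

end CfsgLib.SECrit.Closure
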