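import Cfsg.Agent.Lib.Invol.SECriterion.Closure.Main
import Cfsg.Agent.Lib.Invol.SECriterion.Closure.RankOne
import Cfsg.Agent.Lib.Invol.SECriterion.Closure.RankOneKey
import Cfsg.Prelude.Def_PLocal

/-!
# A strongly closed two-subgroup and the Sylow subgroup of its normal closure (S3289 given the criterion)
-/

set_option autoImplicit false
set_option linter.style.haveILetI false

namespace CfsgLib.SECrit.Closure

open Subgroup CfsgLib.Invol

universe u

variable {G : Type u} [Group G] [Finite G] {T : Sylow 2 G} {S H : Subgroup G}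

/-- **One involution in `S`: it is Sylow in its normal closure.** -/
theorem SCSet.mem_of_unique (h : SCSet T S H) {z : G} (hz : z ∈ S) (hzo : orderOf z = 2)
    (huniq : ∀ s ∈ S, orderOf s = 2 → s = z) :
    ∀ t ∈ (T : Subgroup G), t ∈ normalClosure (S : Set G) → t ∈ S := by
  classical
  haveI : Fact (Nat.Prime 2) := ⟨Nat.prime_two⟩
  set O := Cfsg.oddCore G with hOdef
  haveI : O.Characteristic := CfsgLib.Coprime.pPrimeCore_characteristic 2
  set π := QuotientGroup.mk' O with hπ
  have hsurj : Function.Surjective π := QuotientGroup.mk'_surjective O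
  have hOodd : Odd (Nat.card O) :=
    Nat.coprime_two_right.1 (CfsgLib.Coprime.pPrimeCore_coprime Nat.prime_two)
  have hker : ∀ x ∈ (T : Subgroup G), π x = 1 → x = 1 := fun x hx e => by
    obtain ⟨k, hk⟩ := T.2 ⟨x, hx⟩
    exact eq_one_of_odd_of_pow_two (k := k)
      (hOodd.of_dvd_nat (Subgroup.orderOf_dvd_natCard O ((QuotientGroup.eq_one_iff x).1 e)))
      (congrArg Subtype.val hk)
  have hzT := h.closed.1 hz
  have hzo' : orderOf (π z) = 2 := invol_iff.2 ⟨by rw [← map_mul, invol_mul_self hzo, map_one],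
    fun e => invol_ne_one hzo (hker z hzT e)⟩
  have hcen : π z ∈ center (G ⧸ O) := mem_center_iff.2 fun q => by
    obtain ⟨g, rfl⟩ := hsurj q
    obtain ⟨o, ho, n, hn, rfl⟩ := h.exists_eq_mul_odd hz hzo huniq g
    rw [map_mul, show π o = 1 from (QuotientGroup.eq_one_iff o).2 ho, one_mul, ← map_mul, ← map_mul,
      mem_centralizer_singleton_iff.1 hn]
  have huniq' : ∀ q ∈ S.map π, orderOf q = 2 → q = π z := by
    rintro _ ⟨s, hs, rfl⟩ hso
    refine congrArg π (huniq s hs (invol_iff.2 ⟨hker _ (mul_mem (h.closed.1 hs) (h.closed.1 hs)) ?_, fun e => ?_⟩))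
    · rw [map_mul]; exact invol_mul_self hso
    · exact invol_ne_one hso (by rw [e, map_one])
  have hsc := Cfsg.Agent.S1250.result T S h.closed O
  rw [← Sylow.coe_mapSurjective hsurj T] at hsc
  intro t ht htX
  have h1 := mem_of_normalClosure (T.mapSurjective hsurj) (CfsgLib.Coprime.pPrimeCore_quotient_eq_bot Nat.prime_two)
    hsc (mem_map_of_mem π hz) hzo' hcen huniq' (π t)
    (by rw [Sylow.coe_mapSurjective hsurj T]; exact mem_map_of_mem π ht)
    (by rw [coe_map, ← map_normalClosure _ π hsurj]; exact mem_map_of_mem π htX)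
  obtain ⟨s, hs, hse⟩ := h1
  have h2 : t⁻¹ * s = 1 := hker _ (mul_mem (inv_mem ht) (h.closed.1 hs)) (by
    rw [map_mul, map_inv, hse, inv_mul_cancel])
  rwa [inv_mul_eq_one.1 h2]

/-- The embedding when `S` has one involution. -/
theorem SCSet.emb_of_unique (h : SCSet T S H) {z : G} (hz : z ∈ S) (hzo : orderOf z = 2)
    (huniq : ∀ s ∈ S, orderOf s = 2 → s = z) : Emb S H := by
  intro t g htX htH hto _ hg
  obtain ⟨m, hm, hmT⟩ := h.exists_conj (P := zpowers t)
    (IsPGroup.of_card (n := 1) (by rw [Nat.card_zpowers, hto, pow_one])) (zpowers_le.2 htH)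
  have h1 := h.mem_of_unique hz hzo huniq _ (hmT t (mem_zpowers t)) (normalClosure_normal.conj_mem t htX m)
  have h2 := h.fuse h1 (invol_ne_one (invol_conj hto m)) (g := g * m⁻¹) (by
    rwa [show g * m⁻¹ * (m * t * m⁻¹) * (g * m⁻¹)⁻¹ = g * t * g⁻¹ by group])
  simpa using mul_mem h2 hm

/-- Two involutions in a two-group give a four-group. -/
theorem exists_commuting_of_twoInvol (hS : IsPGroup 2 S) (hp : TwoInvol S) :
    ∃ a ∈ S, ∃ c ∈ S, orderOf a = 2 ∧ orderOf c = 2 ∧ a ≠ c ∧ Commute a c := by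
  obtain ⟨a, ha, b, hb, hao, hbo, hab⟩ := hp
  by_cases hcom : Commute a b
  · exact ⟨a, ha, b, hb, hao, hbo, hab, hcom⟩
  have heven : Even (orderOf (a * b)) := by
    obtain ⟨k, hk⟩ := hS ⟨a * b, mul_mem ha hb⟩
    have hk' : (a * b) ^ 2 ^ k = 1 := congrArg Subtype.val hk
    obtain ⟨i, -, hi⟩ := (Nat.dvd_prime_pow Nat.prime_two).1 (orderOf_dvd_of_pow_eq_one hk')
    rw [hi]
    refine Nat.even_pow.2 ⟨even_two, fun h0 => hab ?_⟩
    rw [h0, pow_zero, orderOf_eq_one_iff] at hi
    calc a = a * (b * b) := by rw [invol_mul_self hbo, mul_one]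
      _ = b := by rw [← mul_assoc, hi, one_mul]
  set c := (a * b) ^ (orderOf (a * b) / 2)
  have hca : Commute c a := commute_pow_half (invol_conj_mul hao hbo) heven
  have hcb : Commute c b := commute_pow_half (invol_conj_mul' hao hbo) heven
  exact ⟨a, ha, c, pow_mem (mul_mem ha hb) _, hao, orderOf_pow_half heven,
    fun e => hcom (e ▸ hcb), hca.symm⟩

/-- Two involutions in a two-group forbid rank one. -/
theorem not_rankLE_one (hS : IsPGroup 2 S) (hp : TwoInvol S) : ¬ Cfsg.PRankLE 2 1 ↥S := by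
  intro hr
  obtain ⟨a, ha, c, hc, hao, hco, hac, hcom⟩ := exists_commuting_of_twoInvol hS hp
  set a' : S := ⟨a, ha⟩
  set c' : S := ⟨c, hc⟩
  haveI hK := isKleinFour_closure_pair (show orderOf a' = 2 by rw [Subgroup.orderOf_mk]; exact hao)
    (show orderOf c' = 2 by rw [Subgroup.orderOf_mk]; exact hco)
    (fun e => hac (congrArg Subtype.val e)) (show Commute a' c' from Subtype.ext hcom.eq)
  have h4 := hr (closure {a', c'}) IsKleinFour.isMulCommutative fun x hx => by
    rw [pow_two]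
    exact congrArg Subtype.val (IsKleinFour.mul_self (⟨x, hx⟩ : closure {a', c'}))
  rw [IsKleinFour.card_four] at h4
  norm_num at h4

/-- **S3289 from the criterion.** -/
theorem closure_of_critThm (hCT : CritThm.{u}) (T : Sylow 2 G) (S : Subgroup G) (hS : S ≠ ⊥)
    (hsc : Cfsg.IsStronglyClosed S (T : Subgroup G)) (H : Subgroup G) (hH : H ≠ ⊤)
    (hC : ∀ s ∈ S, s ≠ 1 → Subgroup.centralizer ({s} : Set G) ≤ H)
    (hN : Subgroup.normalizer ((Cfsg.omegaOne 2 S : Subgroup G) : Set G) ≤ H) :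
    Cfsg.IsStronglyEmbedded ((H ⊓ Subgroup.normalClosure (S : Set G)).subgroupOf (Subgroup.normalClosure (S : Set G))) ∧
      (S = (T : Subgroup G) ⊓ Subgroup.normalClosure (S : Set G) ∨ S = Cfsg.omegaOne 2 ((T : Subgroup G) ⊓ Subgroup.normalClosure (S : Set G))) ∧
      (Cfsg.PRankLE 2 1 ↥S → S = (T : Subgroup G) ⊓ Subgroup.normalClosure (S : Set G)) := by
  classical
  have key : ∀ g ∈ normalizer ((T : Subgroup G) : Set G), ∀ x ∈ Cfsg.omegaOne 2 S,
      g * x * g⁻¹ ∈ Cfsg.omegaOne 2 S := fun g hg x hx => by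
    unfold Cfsg.omegaOne at hx ⊢
    induction hx using closure_induction with
    | mem y hy =>
      exact subset_closure ⟨hsc.2 y hy.1 g ((mem_normalizer_iff.1 hg y).1 (hsc.1 hy.1)),
        by rw [conj_pow, hy.2, mul_one, mul_inv_cancel]⟩
    | one => rw [mul_one, mul_inv_cancel]; exact one_mem _
    | mul a b _ _ iha ihb =>
      rw [show g * (a * b) * g⁻¹ = (g * a * g⁻¹) * (g * b * g⁻¹) by group]; exact mul_mem iha ihb
    | inv a _ iha =>
      rw [show g * a⁻¹ * g⁻¹ = (g * a * g⁻¹)⁻¹ by group]; exact inv_mem iha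
  have h : SCSet T S H := ⟨hS, hH, hsc, hC, fun g hg => hN (mem_normalizer_iff.2 fun x =>
    ⟨key g hg x, fun hx => by simpa [mul_assoc] using key g⁻¹ (inv_mem hg) _ hx⟩)⟩
  have hX : S ≤ (T : Subgroup G) ⊓ normalClosure (S : Set G) := le_inf hsc.1 fun s hs => subset_normalClosure hs
  by_cases hp : TwoInvol S
  · refine ⟨h.stronglyEmbedded (h.emb hCT hp), ?_, fun hr => absurd hr (not_rankLE_one (T.2.to_le hsc.1) hp)⟩
    rcases h.sylow_clause hCT hp with hs | ⟨hs1, hs2⟩
    · exact Or.inl (le_antisymm hX fun x hx => hs x hx.1 hx.2)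
    · refine Or.inr (le_antisymm (fun s hs => subset_closure
        (show s ∈ {x | x ∈ (T : Subgroup G) ⊓ normalClosure (S : Set G) ∧ x ^ 2 = 1} from
          ⟨hX hs, by rw [pow_two]; exact hs1 s hs⟩)) ?_)
      exact (closure_le _).2 fun x hx => hs2 x hx.1.1 hx.1.2 (by rw [← pow_two]; exact hx.2)
  · obtain ⟨z, hzS, hc⟩ := h.exists_crit
    have huniq : ∀ s ∈ S, orderOf s = 2 → s = z := fun s hs hso => by
      by_contra hne
      exact hp ⟨s, hs, z, hzS, hso, hc.invol, hne⟩
    have heq : S = (T : Subgroup G) ⊓ normalClosure (S : Set G) :=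
      le_antisymm hX fun x hx => h.mem_of_unique hzS hc.invol huniq x hx.1 hx.2
    exact ⟨h.stronglyEmbedded (h.emb_of_unique hzS hc.invol huniq), Or.inl heq, fun _ => heq⟩

end CfsgLib.SECrit.Closure
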