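import Cfsg.Agent.Lib.Invol.SECriterion.Closure.Main
import Cfsg.Agent.Lib.Invol.SECriterion.Closure.RankOne
import Cfsg.Agent.Lib.Invol.Tight.Tools

/-!
# The normal closure of a tightly embedded subgroup with odd intersections (S1911 given the criterion)
-/

set_option autoImplicit false
set_option linter.style.haveILetI false

namespace CfsgLib.SECrit.Closure

open Subgroup CfsgLib.Invol

universe u

variable {G : Type u} [Group G]

/-- The conjugates of `Q` lie in `N₀ Q` when the group is `N₀` times the normalizer. -/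
theorem normalClosure_le_sup {Q N₀ : Subgroup G} [hN : N₀.Normal]
    (hNM : ∀ g : G, ∃ l ∈ N₀, ∃ n ∈ normalizer (Q : Set G), g = l * n) :
    normalClosure (Q : Set G) ≤ N₀ ⊔ Q := by
  haveI : (N₀ ⊔ Q).Normal := ⟨fun x hx g => by
    obtain ⟨l, hl, n, hn, rfl⟩ := hNM g
    obtain ⟨m, hm, q, hq, rfl⟩ := mem_sup_of_normal_left.1 hx
    have e : l * n * (m * q) * (l * n)⁻¹ = l * ((n * m * n⁻¹) * (n * q * n⁻¹)) * l⁻¹ := by group
    rw [e]
    exact mul_mem (mul_mem (mem_sup_left hl) (mul_mem (mem_sup_left (hN.conj_mem m hm n))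
      (mem_sup_right ((mem_normalizer_iff.1 hn q).1 hq)))) (inv_mem (mem_sup_left hl))⟩
  exact normalClosure_le_normal fun q hq => mem_sup_right hq

/-- An element congruent to an involution is congruent to its two-part. -/
theorem pow_odd_mem {N₀ : Subgroup G} [N₀.Normal] {t q : G} (ht : orderOf t = 2) (htq : t * q⁻¹ ∈ N₀) {j : ℕ}
    (hj : Odd (orderOf (q ^ j))) : q ^ j ∈ N₀ := by
  refine (QuotientGroup.eq_one_iff _).1 (orderOf_eq_one_iff.1 (Nat.dvd_one.1 ?_))
  have he : QuotientGroup.mk' N₀ t = QuotientGroup.mk' N₀ q := by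
    rw [← mul_inv_eq_one, ← map_inv, ← map_mul]
    exact (QuotientGroup.eq_one_iff _).2 htq
  have h1 : orderOf (QuotientGroup.mk' N₀ (q ^ j)) ∣ 2 := by
    rw [map_pow, ← he]
    exact (orderOf_pow_dvd j).trans (ht ▸ orderOf_map_dvd _ t)
  have h2 := Nat.dvd_gcd h1 (orderOf_map_dvd (QuotientGroup.mk' N₀) (q ^ j))
  rwa [Nat.Coprime.gcd_eq_one (Nat.coprime_two_left.2 hj)] at h2

/-- **S1911 from the criterion.** -/
theorem tight_stronglyEmbedded [Finite G] (hCT : CritThm.{u}) (Q : Subgroup G) (hQ : Cfsg.IsTightlyEmbedded Q)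
    (hodd : ∀ g : G, g ∉ normalizer (Q : Set G) →
      Odd (Nat.card ↥(Q.map (MulAut.conj g).toMonoidHom ⊓ normalizer (Q : Set G)))) :
    Q.Normal ∨ Cfsg.IsStronglyEmbedded ((normalizer (Q : Set G)).subgroupOf (normalClosure (Q : Set G))) := by
  classical
  by_cases hQn : Q.Normal
  · exact Or.inl hQn
  refine Or.inr ?_
  haveI : Fact (Nat.Prime 2) := ⟨Nat.prime_two⟩
  set N := normalizer (Q : Set G) with hN
  obtain ⟨g₀, hg₀⟩ : ∃ g, g ∉ N := by
    by_contra hh
    push Not at hh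
    exact hQn (normalizer_eq_top_iff.1 (eq_top_iff.2 fun g _ => hh g))
  obtain ⟨z₀, hz₀Q, hc₀⟩ := crit_of_tight hodd hQ.1 hg₀
  have hidx := odd_index_normalizer hodd hQ.1
  obtain ⟨P⟩ := (inferInstance : Nonempty (Sylow 2 N))
  set T₀ := (P : Subgroup N).map N.subtype
  obtain ⟨T, hT⟩ : ∃ T : Sylow 2 G, (T : Subgroup G) = T₀ := by
    have hT₀ : IsPGroup 2 T₀ := P.2.map _
    refine ⟨hT₀.toSylow ?_, rfl⟩
    rw [index_map_subtype]
    exact fun e => (Nat.prime_two.dvd_mul.1 e).elim P.not_dvd_index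
      fun e2 => Nat.not_even_iff_odd.2 hidx (even_iff_two_dvd.2 e2)
  have hTN : (T : Subgroup G) ≤ N := hT ▸ map_subtype_le _
  set S := (T : Subgroup G) ⊓ Q with hS
  -- a two-element of `Q` is conjugate into `S` by an element of `N`
  have hintoS : ∀ u ∈ Q, ∀ k : ℕ, u ^ 2 ^ k = 1 → ∃ m ∈ N, m * u * m⁻¹ ∈ S := by
    intro u hu k hk
    obtain ⟨m, hm⟩ := exists_conj_le_sylow ((isPGroup_zpowers_of hk).comap_of_injective N.subtype
      N.subtype_injective) (T.subtype hTN)
    refine ⟨m, m.2, hm ⟨u, le_normalizer hu⟩ (mem_zpowers u), (mem_normalizer_iff.1 m.2 u).1 hu⟩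
  obtain ⟨z, hzS, hzo, hzQ⟩ : ∃ z ∈ S, orderOf z = 2 ∧ z ∈ Q := by
    obtain ⟨m, hm, hmS⟩ := hintoS z₀ hz₀Q 1 (by rw [pow_one, pow_two, invol_mul_self hc₀.invol])
    exact ⟨_, hmS, invol_conj hc₀.invol m, (mem_inf.1 hmS).2⟩
  have hfuse : ∀ s ∈ S, s ≠ 1 → ∀ g : G, g * s * g⁻¹ ∈ N → g ∈ N := by
    intro s hs hs1 g hg
    obtain ⟨k, hk⟩ := T.2 ⟨s, (mem_inf.1 hs).1⟩
    obtain ⟨n, hn⟩ := exists_pow_invol (congrArg Subtype.val hk : s ^ 2 ^ k = 1) hs1
    exact mem_normalizer_of_conj_invol hodd (pow_mem (mem_inf.1 hs).2 n) hn (by rw [← conj_pow]; exact pow_mem hg n)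
  have h : SCSet T S N :=
    { ne_bot := fun e => invol_ne_one hzo (mem_bot.1 (e ▸ hzS))
      ne_top := fun e => hg₀ (e ▸ mem_top g₀)
      closed := ⟨inf_le_left, fun x hx g hg => by
        by_cases hx1 : x = 1
        · rw [hx1]; simp
        exact ⟨hg, (mem_normalizer_iff.1 (hfuse x hx hx1 g (hTN hg)) x).1 (mem_inf.1 hx).2⟩⟩
      cent := fun s hs hs1 c hc => hfuse s hs hs1 c (by
        rw [mem_centralizer_singleton_iff.1 hc, mul_inv_cancel_right]; exact le_normalizer (mem_inf.1 hs).2)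
      norm := fun x hx => hfuse z hzS (invol_ne_one hzo) x
        (hTN ((mem_normalizer_iff.1 hx z).1 (mem_inf.1 hzS).1)) }
  set K := normalClosure (Q : Set G) with hK
  haveI : K.Normal := normalClosure_normal
  have hzK : z ∈ K := subset_normalClosure hzQ
  refine subgroupOf_of_mem (fun hle => hg₀ (hfuse z hzS (invol_ne_one hzo) g₀
      (hle (normalClosure_normal.conj_mem z hzK g₀))))
    ⟨z, hzK, le_normalizer hzQ, hzo⟩ fun t g htK htN ht hgK hg => ?_
  by_cases hp : TwoInvol S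
  · -- two involutions
    set X := normalClosure (S : Set G) with hX
    haveI hXn : X.Normal := normalClosure_normal
    have he := h.emb hCT hp
    have hse := h.stronglyEmbedded he
    rw [← hX, inf_subgroupOf_right] at hse
    have hmul : ∀ g : G, ∃ l ∈ X, ∃ n ∈ N, g = l * n := fun g => by
      have hzX : z ∈ X := subset_normalClosure hzS
      have hzX' : g * z * g⁻¹ ∈ X := hXn.conj_mem z hzX g
      obtain ⟨l, hl⟩ := isConj_iff.1 (exists_conj_fixing hse (i := (⟨z, hzX⟩ : X)) (w := ⟨_, hzX'⟩)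
        (by rw [Subgroup.orderOf_mk]; exact hzo) (by rw [Subgroup.orderOf_mk]; exact invol_conj hzo g))
      have hl' : (l : G) * z * (l : G)⁻¹ = g * z * g⁻¹ := congrArg Subtype.val hl
      refine ⟨l, l.2, (l : G)⁻¹ * g, hfuse z hzS (invol_ne_one hzo) _ ?_, by rw [mul_inv_cancel_left]⟩
      rw [show (l : G)⁻¹ * g * z * ((l : G)⁻¹ * g)⁻¹ = (l : G)⁻¹ * (g * z * g⁻¹) * l by group, ← hl',
        show (l : G)⁻¹ * ((l : G) * z * (l : G)⁻¹) * l = z by group]
      exact le_normalizer hzQ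
    have hKle := normalClosure_le_sup hmul
    have htX : t ∈ X := by
      obtain ⟨l, hl, q, hq, rfl⟩ := mem_sup_of_normal_left.1 (hKle htK)
      obtain ⟨i, j, hij, ⟨a, ha⟩, hjo⟩ := CfsgLib.Tight.exists_two_odd q
      obtain ⟨m, hm, hmS⟩ := hintoS _ (pow_mem hq i) a ha
      have hqi : q ^ i ∈ X := by
        have := hXn.conj_mem _ (subset_normalClosure hmS) m⁻¹
        rwa [show m⁻¹ * (m * q ^ i * m⁻¹) * m⁻¹⁻¹ = q ^ i by group] at this
      refine mul_mem hl (hij ▸ mul_mem hqi (pow_odd_mem ht ?_ hjo))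
      rw [mul_inv_cancel_right]; exact hl
    obtain ⟨x, hx, q, hq, rfl⟩ := mem_sup_of_normal_left.1 (hKle hgK)
    have hqN : q ∈ N := le_normalizer hq
    refine mul_mem ?_ hqN
    refine he (q * t * q⁻¹) x (hXn.conj_mem t htX q) (mul_mem (mul_mem hqN htN) (inv_mem hqN))
      (invol_conj ht q) hx ?_
    rwa [show x * (q * t * q⁻¹) * x⁻¹ = x * q * t * (x * q)⁻¹ by group]
  · -- one involution
    have huniq : ∀ s ∈ S, orderOf s = 2 → s = z := fun s hs hso => by
      by_contra hne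
      exact hp ⟨s, hs, z, hzS, hso, hzo, hne⟩
    haveI : (Cfsg.oddCore G).Characteristic := CfsgLib.Coprime.pPrimeCore_characteristic 2
    have hcop := Nat.coprime_two_right.1 (CfsgLib.Coprime.pPrimeCore_coprime (G := G) Nat.prime_two)
    have hKle := normalClosure_le_sup (Q := Q) (N₀ := Cfsg.oddCore G) fun g => by
      obtain ⟨o, ho, n, hn, he⟩ := h.exists_eq_mul_odd hzS hzo huniq g
      exact ⟨o, ho, n, h.cent z hzS (invol_ne_one hzo) hn, he⟩
    obtain ⟨o, ho, q, hq, rfl⟩ := mem_sup_of_normal_left.1 (hKle htK)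
    obtain ⟨i, j, hij, ⟨a, ha⟩, hjo⟩ := CfsgLib.Tight.exists_two_odd q
    have hqj := pow_odd_mem ht (show o * q * q⁻¹ ∈ Cfsg.oddCore G by rwa [mul_inv_cancel_right]) hjo
    set u := q ^ i with hu
    set t := o * q
    have hx : (t * u : G) * (u * u)⁻¹ ∈ Cfsg.oddCore G := by
      rw [show t * u * (u * u)⁻¹ = o * (u * q ^ j * u⁻¹) by
        rw [show t = o * (u * q ^ j) by rw [hu, ← hij]]; group]
      exact mul_mem ho ((inferInstance : (Cfsg.oddCore G).Normal).conj_mem _ hqj u)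
    have htu : QuotientGroup.mk' (Cfsg.oddCore G) t = QuotientGroup.mk' (Cfsg.oddCore G) u := by
      rw [← mul_inv_eq_one, ← map_inv, ← map_mul]
      refine (QuotientGroup.eq_one_iff _).2 ?_
      rwa [show t * u * (u * u)⁻¹ = t * u⁻¹ by group] at hx
    have hu1 : u * u = 1 := by
      refine eq_one_of_odd_of_pow_two (k := a) (hcop.of_dvd_nat (Subgroup.orderOf_dvd_natCard (Cfsg.oddCore G)
        ((QuotientGroup.eq_one_iff _).1 (show QuotientGroup.mk' (Cfsg.oddCore G) (u * u) = 1 by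
          rw [map_mul, ← htu, ← map_mul, invol_mul_self ht, map_one])))) ?_
      rw [← pow_two, ← pow_mul, mul_comm, pow_mul, ha, one_pow]
    have hune : u ≠ 1 := fun e => by
      rw [e, map_one] at htu
      exact invol_ne_one ht (eq_one_of_odd_of_pow_two (k := 1) (hcop.of_dvd_nat
        (Subgroup.orderOf_dvd_natCard (Cfsg.oddCore G) ((QuotientGroup.eq_one_iff t).1 htu)))
        (by rw [pow_one, pow_two, invol_mul_self ht]))
    have huo : orderOf u = 2 := invol_iff.2 ⟨hu1, hune⟩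
    have huN : u ∈ N := le_normalizer (pow_mem hq i)
    have hprod : u * t ∈ Cfsg.oddCore G ⊓ N := by
      refine ⟨(QuotientGroup.eq_one_iff _).1 (show QuotientGroup.mk' (Cfsg.oddCore G) (u * t) = 1 by
        rw [map_mul, htu, ← map_mul, hu1, map_one]), mul_mem huN htN⟩
    obtain ⟨d, hd, hde⟩ := exists_conj_eq_of_odd huo ht
      (hcop.of_dvd_nat (Subgroup.orderOf_dvd_natCard (Cfsg.oddCore G) hprod.1))
    have hdN : d ∈ N := (zpowers_le.2 hprod.2) hd
    have h1 := mem_normalizer_of_conj_invol hodd (pow_mem hq i) huo (k := g * d) (by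
      rw [show g * d * u * (g * d)⁻¹ = g * (d * u * d⁻¹) * g⁻¹ by group, hde]; exact hg)
    exact (mul_mem_cancel_right hdN).1 h1

end CfsgLib.SECrit.Closure
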