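import Cfsg.Agent.Lib.Invol.SECriterion.Closure.Reduce
import Cfsg.Agent.Lib.Invol.SECriterion.Closure.Shape
import Mathlib.GroupTheory.Transfer

/-!
# No involution of the core in the normal closure

The transfer into the regular two-group modulo `S`: it is abelian, as an invariant pairing on the regular
two-group vanishes, and an element free on `Q` splits off the image of the core.
-/

set_option autoImplicit false
set_option linter.style.haveILetI false

namespace CfsgLib.SECrit.Closure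

open Subgroup CfsgLib.Invol

universe u

/-- Every `H`-invariant pairing on `Q` killed by the involutions is trivial. -/
def NoForm {G : Type u} [Group G] (H Q : Subgroup G) : Prop :=
  ∀ (A : Type u) [CommGroup A] (β : G → G → A),
    (∀ u ∈ Q, ∀ v ∈ Q, ∀ w ∈ Q, β (u * v) w = β u w * β v w) →
    (∀ u ∈ Q, ∀ v ∈ Q, ∀ w ∈ Q, β u (v * w) = β u v * β u w) →
    (∀ e ∈ Q, e * e = 1 → ∀ v ∈ Q, β e v = 1) → (∀ v ∈ Q, β v v = 1) →
    (∀ a ∈ H, ∀ u ∈ Q, ∀ v ∈ Q, β (a * u * a⁻¹) (a * v * a⁻¹) = β u v) →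
    ∀ u ∈ Q, ∀ v ∈ Q, β u v = 1

variable {G : Type u} [Group G] [Finite G] {T : Sylow 2 G} {S H : Subgroup G}

section

open scoped commutatorElement

theorem comm_mul_left_of_central {A : Type*} [Group A] {a b c : A} (h : ⁅b, c⁆ ∈ center A) :
    ⁅a * b, c⁆ = ⁅a, c⁆ * ⁅b, c⁆ := by
  have h1 := mem_center_iff.1 h a
  have h2 := mem_center_iff.1 h ⁅a, c⁆
  rw [h2]
  calc ⁅a * b, c⁆ = a * ⁅b, c⁆ * a⁻¹ * ⁅a, c⁆ := by simp only [commutatorElement_def]; group
    _ = ⁅b, c⁆ * ⁅a, c⁆ := by rw [h1, mul_inv_cancel_right]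

theorem comm_central_left {A : Type*} [Group A] {c : A} (hc : c ∈ center A) (a : A) : ⁅c, a⁆ = 1 :=
  commutatorElement_eq_one_iff_mul_comm.2 (mem_center_iff.1 hc a).symm

/-- **The core meets the normal closure trivially.** -/
theorem SCSet.core_inf_eq_bot (h : SCSet T S H) (hO : Cfsg.oddCore ↥H.normalCore = ⊥)
    (T' : Sylow 2 (G ⧸ H.normalCore)) {Q : Subgroup (G ⧸ H.normalCore)}
    (hT' : (T' : Subgroup (G ⧸ H.normalCore)) = (T : Subgroup G).map (QuotientGroup.mk' H.normalCore))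
    (htop : Top T' (S.map (QuotientGroup.mk' H.normalCore)) (H.map (QuotientGroup.mk' H.normalCore))
      ((normalClosure (S : Set G)).map (QuotientGroup.mk' H.normalCore)) Q)
    (hidx : Odd (Q.subgroupOf ((normalClosure (S : Set G)).map (QuotientGroup.mk' H.normalCore))).index)
    (hform : NoForm (H.map (QuotientGroup.mk' H.normalCore) ⊓
      (normalClosure (S : Set G)).map (QuotientGroup.mk' H.normalCore)) Q) :
    H.normalCore ⊓ normalClosure (S : Set G) = ⊥ := by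
  classical
  haveI : Fact (Nat.Prime 2) := ⟨Nat.prime_two⟩
  haveI := normalCore_normal H
  set C := H.normalCore with hC
  set X := normalClosure (S : Set G) with hXdef
  haveI : X.Normal := normalClosure_normal
  set π := QuotientGroup.mk' C with hπ
  have hcc : ∀ x ∈ X, ∀ c ∈ C, Commute x c := h.commute_core hO
  have hZ2 := h.isPGroup_core_inf hO
  set R := X ⊓ Q.comap π with hR
  have hker1 : π.ker ≤ H := by rw [hπ, QuotientGroup.ker_mk']; exact H.normalCore_le
  have hRmem : ∀ {g : G}, g ∈ R ↔ g ∈ X ∧ π g ∈ Q := fun {g} => mem_inf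
  have hQle : ∀ {y : G ⧸ C}, y ∈ Q → y ∈ H.map π ∧ y ∈ X.map π := fun hy => mem_inf.1 (htop.le hy)
  have hRH : R ≤ H := fun g hg => by
    rw [← comap_map_eq_self hker1]; exact mem_comap.2 (hQle (hRmem.1 hg).2).1
  have hR2 : IsPGroup 2 R := by
    intro g
    obtain ⟨i, hi⟩ := htop.two ⟨π g, (hRmem.1 g.2).2⟩
    have hgC : (g : G) ^ 2 ^ i ∈ C := (QuotientGroup.eq_one_iff _).1
      (show π ((g : G) ^ 2 ^ i) = 1 by rw [map_pow]; exact congrArg Subtype.val hi)
    obtain ⟨j, hj⟩ := hZ2 ⟨_, mem_inf.2 ⟨hgC, pow_mem (hRmem.1 g.2).1 _⟩⟩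
    refine ⟨i + j, Subtype.ext ?_⟩
    show (g : G) ^ 2 ^ (i + j) = 1
    rw [pow_add, pow_mul]
    exact congrArg Subtype.val hj
  have hRn : ∀ a ∈ H, ∀ g ∈ R, a * g * a⁻¹ ∈ R := fun a ha g hg => hRmem.2
    ⟨(inferInstance : X.Normal).conj_mem g (hRmem.1 hg).1 a, by
      rw [map_mul, map_mul, map_inv]; exact htop.conj_mem (mem_map_of_mem π ha) (hRmem.1 hg).2⟩
  have hRT : R ≤ (T : Subgroup G) := by
    have hn : (T : Subgroup G) ≤ normalizer (R : Set G) := fun a ha => mem_normalizer_iff.2 fun g =>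
      ⟨hRn a (h.sylow_le ha) g, fun hg => by simpa [mul_assoc] using hRn a⁻¹ (inv_mem (h.sylow_le ha)) _ hg⟩
    exact (T.3 (T.2.to_sup_of_normal_right' hR2 hn) le_sup_left) ▸ le_sup_right
  have hSR : S ≤ R := fun s hs => hRmem.2 ⟨subset_normalClosure hs, htop.le_Q (mem_map_of_mem π hs)⟩
  have hSconj : ∀ a ∈ H, ∀ s ∈ S, a * s * a⁻¹ ∈ S := fun a ha s hs =>
    h.closed.2 s hs a (hRT (hRn a ha s (hSR hs)))
  set N : Subgroup R := S.subgroupOf R with hN
  haveI hNn : N.Normal := ⟨fun s hs g => mem_subgroupOf.2 (hSconj g (hRH g.2) s (mem_subgroupOf.1 hs))⟩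
  let A := R ⧸ N
  let q : R →* A := QuotientGroup.mk' N
  have hq1 : ∀ g : R, q g = 1 ↔ (g : G) ∈ S := fun g =>
    (QuotientGroup.eq_one_iff g).trans mem_subgroupOf
  have hqC : ∀ g : R, (g : G) ∈ C → q g ∈ center A := fun g hg => by
    rw [mem_center_iff]
    intro a
    induction a using QuotientGroup.induction_on with
    | H b =>
      show q b * q g = q g * q b
      rw [← map_mul, ← map_mul]
      exact congrArg q (Subtype.ext (hcc b (hRmem.1 b.2).1 g hg).eq)
  -- the classes of the elements over `S`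
  have hcen : ∀ g : R, π g ∈ S.map π → q g ∈ center A := fun g hg => by
    obtain ⟨s, hs, hse⟩ := hg
    have hc : s⁻¹ * (g : G) ∈ C := QuotientGroup.eq.1 hse
    have e : g = ⟨s, hSR hs⟩ * ⟨s⁻¹ * (g : G), mul_mem (inv_mem (hSR hs)) g.2⟩ :=
      Subtype.ext (mul_inv_cancel_left s (g : G)).symm
    rw [e, map_mul, (hq1 _).2 hs, one_mul]
    exact hqC _ hc
  have hπeq : ∀ g g' : R, π g = π g' → ∃ c ∈ center A, q g' = q g * c := fun g g' e =>
    ⟨q (g⁻¹ * g'), hqC _ (show ((g⁻¹ * g' : R) : G) ∈ C by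
      simpa using QuotientGroup.eq.1 e), by rw [← map_mul, mul_inv_cancel_left]⟩
  have hcomm : ∀ g g' : R, ⁅q g, q g'⁆ ∈ center A := fun g g' => by
    rw [← map_commutatorElement q]
    refine hcen _ (htop.invol_mem _ (by
      show π ((⁅g, g'⁆ : R) : G) ∈ Q
      exact (hRmem.1 (⁅g, g'⁆ : R).2).2) ?_)
    simp only [commutatorElement_def, Subgroup.coe_mul, Subgroup.coe_inv, map_mul, map_inv]
    have := htop.comm_sq (π g)⁻¹ (inv_mem (hRmem.1 g.2).2) (π g') (hRmem.1 g'.2).2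
    simpa using this
  have hwd : ∀ g g' u u' : R, π g = π u → π g' = π u' → ⁅q u, q u'⁆ = ⁅q g, q g'⁆ := by
    intro g g' u u' e e'
    obtain ⟨c, hc, h1⟩ := hπeq g u e
    obtain ⟨c', hc', h2⟩ := hπeq g' u' e'
    rw [h1, h2]
    have a1 := mem_center_iff.1 hc
    have a2 := mem_center_iff.1 hc'
    simp only [commutatorElement_def, mul_inv_rev]
    rw [show q g * c * (q g' * c') * (c⁻¹ * (q g)⁻¹) * (c'⁻¹ * (q g')⁻¹) =
      q g * (c * (q g' * c') * c⁻¹) * (q g)⁻¹ * (c'⁻¹ * (q g')⁻¹) by group,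
      show c * (q g' * c') * c⁻¹ = q g' * c' by rw [← a1, mul_inv_cancel_right],
      show q g * (q g' * c') * (q g)⁻¹ = q g * q g' * (q g)⁻¹ * c' by
        rw [mul_assoc, mul_assoc (q g'), ← a2, ← mul_assoc, ← mul_assoc],
      mul_assoc _ c', ← mul_assoc c', mul_inv_cancel, one_mul]
  -- lifts
  have hlift : ∀ y ∈ Q, ∃ g : R, π g = y := fun y hy => by
    obtain ⟨x, hx, rfl⟩ := (hQle hy).2
    exact ⟨⟨x, hRmem.2 ⟨hx, hy⟩⟩, rfl⟩
  choose! lift hlift using hlift
  let β : G ⧸ C → G ⧸ C → center A := fun y y' => ⟨⁅q (lift y), q (lift y')⁆, hcomm _ _⟩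
  have hβ : ∀ y ∈ Q, ∀ y' ∈ Q, ∀ g g' : R, π g = y → π g' = y' → (β y y' : A) = ⁅q g, q g'⁆ :=
    fun y hy y' hy' g g' e e' => hwd g g' _ _ (e.trans (hlift y hy).symm) (e'.trans (hlift y' hy').symm)
  have hml : ∀ u ∈ Q, ∀ v ∈ Q, ∀ w ∈ Q, β (u * v) w = β u w * β v w := fun u hu v hv w hw => Subtype.ext (by
    rw [hβ _ (mul_mem hu hv) _ hw (lift u * lift v) (lift w) (by
      rw [Subgroup.coe_mul, map_mul, hlift u hu, hlift v hv]) (hlift w hw), map_mul,
      comm_mul_left_of_central (hcomm _ _)]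
    rfl)
  have hsymm : ∀ u v : G ⧸ C, β v u = (β u v)⁻¹ := fun u v => Subtype.ext (commutatorElement_inv _ _).symm
  letI : CommGroup (center A) := CommGroup.mk (fun a b => Subtype.ext (mem_center_iff.1 b.2 a))
  have hzero := hform (center A) β hml
    (fun u hu v hv w hw => by rw [hsymm, hml v hv w hw u hu, hsymm u v, hsymm u w, mul_inv, inv_inv, inv_inv])
    (fun e he he2 v hv => Subtype.ext (comm_central_left
      (hcen _ (by rw [hlift e he]; exact htop.invol_mem e he he2)) _))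
    (fun v _ => Subtype.ext (commutatorElement_self _)) (by
      intro a ha u hu v hv
      obtain ⟨⟨g₁, hg₁, hg₁e⟩, g, hg, rfl⟩ := mem_inf.1 ha
      have hgH : g ∈ H := by
        rw [← comap_map_eq_self hker1, mem_comap]; exact (mem_inf.1 ha).1
      have hconj : ∀ y ∈ Q, π (⟨_, hRn g hgH _ (lift y).2⟩ : R) = π g * y * (π g)⁻¹ := fun y hy => by
        show π (g * (lift y : G) * g⁻¹) = _
        rw [map_mul, map_mul, map_inv, hlift y hy]
      refine Subtype.ext ((hβ _ (htop.conj_mem (mem_inf.1 ha).1 hu) _ (htop.conj_mem (mem_inf.1 ha).1 hv) _ _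
        (hconj u hu) (hconj v hv)).trans ?_)
      show _ = ⁅q (lift u), q (lift v)⁆
      rw [← map_commutatorElement q, ← map_commutatorElement q]
      refine QuotientGroup.eq.2 (mem_subgroupOf.2 ?_)
      set w : R := ⁅lift u, lift v⁆ with hw
      simp only [commutatorElement_def, Subgroup.coe_mul, Subgroup.coe_inv]
      -- `g` fixes the class
      obtain ⟨s, hs, hse⟩ : π (w : G) ∈ S.map π := by
        refine htop.invol_mem _ (hRmem.1 w.2).2 ?_
        simp only [hw, commutatorElement_def, Subgroup.coe_mul, Subgroup.coe_inv, map_mul, map_inv]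
        have := htop.comm_sq (π (lift u))⁻¹ (inv_mem (hRmem.1 (lift u).2).2) (π (lift v)) (hRmem.1 (lift v).2).2
        simpa using this
      have hc : s⁻¹ * (w : G) ∈ C := QuotientGroup.eq.1 hse
      have hwe : (lift u : G) * lift v * (lift u : G)⁻¹ * (lift v : G)⁻¹ = (w : G) := by
        simp [hw, commutatorElement_def]
      rw [show (g * (lift u : G) * g⁻¹ * (g * (lift v : G) * g⁻¹) * (g * (lift u : G) * g⁻¹)⁻¹ *
        (g * (lift v : G) * g⁻¹)⁻¹)⁻¹ = g * ((lift u : G) * lift v * (lift u : G)⁻¹ * (lift v : G)⁻¹)⁻¹ * g⁻¹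
          by group, hwe,
        show g * (w : G)⁻¹ * g⁻¹ * (w : G) = (g * (s⁻¹ * (w : G))⁻¹ * g⁻¹) * (g * s⁻¹ * g⁻¹) * (w : G) by group,
        (hcc g hg _ (inv_mem hc)).eq, mul_inv_cancel_right]
      set c := s⁻¹ * (w : G) with hcdef
      rw [show (w : G) = s * c by rw [hcdef, mul_inv_cancel_left],
        show c⁻¹ * (g * s⁻¹ * g⁻¹) * (s * c) = c⁻¹ * ((g * s⁻¹ * g⁻¹) * s * c) by group,
        (hcc _ (subset_normalClosure (mul_mem (hSconj g hgH _ (inv_mem hs)) hs)) c hc).eq,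
        inv_mul_cancel_left]
      exact mul_mem (hSconj g hgH _ (inv_mem hs)) hs)
  letI : CommGroup A := CommGroup.mk (fun a b => by
    induction a using QuotientGroup.induction_on with
    | H g =>
      induction b using QuotientGroup.induction_on with
      | H g' =>
        have h1 := hzero (π g) (hRmem.1 g.2).2 (π g') (hRmem.1 g'.2).2
        rw [Subtype.ext_iff, hβ _ (hRmem.1 g.2).2 _ (hRmem.1 g'.2).2 g g' rfl rfl, OneMemClass.coe_one] at h1
        exact commutatorElement_eq_one_iff_mul_comm.1 h1)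
  -- the element free on `Q`
  obtain ⟨c₀, hc₀⟩ := htop.exists_out
  obtain ⟨kb, hkb, -, hfree⟩ := htop.exists_free hc₀
  obtain ⟨k, hk, rfl⟩ := (mem_inf.1 hkb).2
  have hkH : k ∈ H := by rw [← comap_map_eq_self hker1, mem_comap]; exact (mem_inf.1 hkb).1
  let ck : R →* R :=
    { toFun := fun g => ⟨k * g * k⁻¹, hRn k hkH g g.2⟩
      map_one' := Subtype.ext (by simp)
      map_mul' := fun a b => Subtype.ext (show k * ((a : G) * b) * k⁻¹ = k * a * k⁻¹ * (k * b * k⁻¹) by group) }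
  let φ : A →* A := QuotientGroup.map N N ck (fun s hs => mem_comap.2 (mem_subgroupOf.2
    (hSconj k hkH s (mem_subgroupOf.1 hs))))
  let ψ : A →* A := φ / MonoidHom.id A
  let χ : R →* A ⧸ ψ.range := (QuotientGroup.mk' ψ.range).comp q
  rw [eq_bot_iff]
  intro c₁ hc₁
  by_contra hne
  rw [mem_bot] at hne
  obtain ⟨i, hi⟩ := hZ2 ⟨c₁, hc₁⟩
  obtain ⟨n, hn⟩ := exists_pow_invol (congrArg Subtype.val hi : c₁ ^ 2 ^ i = 1) hne
  obtain ⟨c, hcdef⟩ : ∃ c, c = c₁ ^ n := ⟨_, rfl⟩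
  rw [← hcdef] at hn
  have hcC : c ∈ C := hcdef ▸ pow_mem (mem_inf.1 hc₁).1 n
  have hcX : c ∈ X := hcdef ▸ pow_mem (mem_inf.1 hc₁).2 n
  have hπc : π c = 1 := (QuotientGroup.eq_one_iff c).2 hcC
  have hcR : c ∈ R := hRmem.2 ⟨hcX, by rw [hπc]; exact one_mem Q⟩
  -- the core is not killed
  have hχc : χ ⟨c, hcR⟩ ≠ 1 := by
    intro e
    obtain ⟨a, ha⟩ := (QuotientGroup.eq_one_iff _).1 e
    induction a using QuotientGroup.induction_on with
    | H g =>
      have h1 : φ (q g) / q g = q ⟨c, hcR⟩ := ha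
      rw [show φ (q g) = q (ck g) from rfl, ← map_div] at h1
      have h2 : ((ck g / g)⁻¹ * ⟨c, hcR⟩ : R).1 ∈ S := mem_subgroupOf.1 (QuotientGroup.eq.1 h1)
      simp only [Subgroup.coe_mul, Subgroup.coe_inv, Subgroup.coe_div] at h2
      have h3 : (π g)⁻¹⁻¹ * (π k * (π g)⁻¹ * (π k)⁻¹) ∈ S.map π ⊓ Q := by
        have hgQ := (hRmem.1 g.2).2
        refine mem_inf.2 ⟨?_, mul_mem (inv_mem (inv_mem hgQ)) (htop.conj_mem (mem_inf.1 hkb).1 (inv_mem hgQ))⟩
        have h4 := mem_map_of_mem π h2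
        rw [show π ((((ck g : R) : G) / (g : G))⁻¹ * c) =
          (π g)⁻¹⁻¹ * (π k * (π g)⁻¹ * (π k)⁻¹) from ?_] at h4
        · exact h4
        show π ((k * (g : G) * k⁻¹ / (g : G))⁻¹ * c) = _
        rw [map_mul, hπc, mul_one, map_inv, div_eq_mul_inv, map_mul, map_mul, map_mul, map_inv, map_inv]
        group
      have h5 := (mem_inf.1 (htop.mem_of_free (mem_inf.1 hkb).1 hfree (inv_mem (hRmem.1 g.2).2) h3)).1
      have hcen' : q g ∈ center A := hcen g (by simpa using inv_mem h5)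
      -- `ψ` kills the classes over `S`
      obtain ⟨s, hs, hse⟩ := (show π g ∈ S.map π by simpa using inv_mem h5)
      have hd : s⁻¹ * (g : G) ∈ C := QuotientGroup.eq.1 hse
      have hfix : q (ck g) = q g := QuotientGroup.eq.2 (mem_subgroupOf.2 (by
        show (k * (g : G) * k⁻¹)⁻¹ * (g : G) ∈ S
        set d := s⁻¹ * (g : G) with hddef
        rw [show (g : G) = s * d by rw [hddef, mul_inv_cancel_left],
          show (k * (s * d) * k⁻¹)⁻¹ * (s * d) = (k * d * k⁻¹)⁻¹ * ((k * s⁻¹ * k⁻¹) * s * d) by group,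
          (hcc k hk d hd).eq, mul_inv_cancel_right,
          (hcc _ (subset_normalClosure (mul_mem (hSconj k hkH _ (inv_mem hs)) hs)) d hd).eq, inv_mul_cancel_left]
        exact mul_mem (hSconj k hkH _ (inv_mem hs)) hs))
      rw [map_div, hfix, div_self'] at h1
      exact invol_ne_one hn (mem_bot.1 (h.inf_core ▸ mem_inf.2 ⟨(hq1 _).1 h1.symm, hcC⟩))
  -- the transfer
  set R' := R.subgroupOf X with hR'
  have hRX : R ≤ X := fun g hg => (hRmem.1 hg).1
  let πX : X →* X.map π := π.subgroupMap X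
  have hodd : Odd R'.index := by
    have e : R' = (Q.subgroupOf (X.map π)).comap πX := by
      ext g
      exact ⟨fun hg => (hRmem.1 (mem_subgroupOf.1 hg)).2, fun hg => mem_subgroupOf.2 (hRmem.2 ⟨g.2, hg⟩)⟩
    rw [e, index_comap_of_surjective _ (π.subgroupMap_surjective X)]
    exact hidx
  let χ' : R' →* A ⧸ ψ.range := χ.comp (subgroupOfEquivOfLe hRX).toMonoidHom
  haveI : R'.FiniteIndex := ⟨index_ne_zero_of_finite⟩
  have hgen : ∀ x : X, MonoidHom.transfer χ' x = 1 := by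
    have key : ∀ (y : G) (hy : y ∈ Group.conjugatesOfSet (S : Set G)),
        MonoidHom.transfer χ' (⟨y, subset_closure hy⟩ : X) = 1 := by
      intro y hy
      obtain ⟨s, hs, hsy⟩ := Group.mem_conjugatesOfSet_iff.1 hy
      obtain ⟨g, hg⟩ := isConj_iff.1 hsy
      set Y : X := ⟨y, subset_closure hy⟩ with hY
      letI := Fintype.ofFinite (Quotient (MulAction.orbitRel (zpowers Y) (X ⧸ R')))
      rw [MonoidHom.transfer_eq_prod_quotient_orbitRel_zpowers_quot]
      refine Finset.prod_eq_one fun o _ => ?_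
      set m := Function.minimalPeriod (Y • ·) o.out
      have hmem := QuotientGroup.out_conj_pow_minimalPeriod_mem R' Y o.out
      set kk : X := o.out.out
      show (QuotientGroup.mk' ψ.range) (q _) = 1
      rw [(hq1 _).2 ?_, map_one]
      show ((kk⁻¹ * Y ^ m * kk : X) : G) ∈ S
      have hT := hRT (mem_subgroupOf.1 hmem)
      simp only [Subgroup.coe_mul, Subgroup.coe_inv, SubmonoidClass.coe_pow] at hT ⊢
      have e : (kk : G)⁻¹ * y ^ m * (kk : G) = (kk : G)⁻¹ * g * s ^ m * ((kk : G)⁻¹ * g)⁻¹ := by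
        rw [← hg, conj_pow]; group
      rw [e] at hT ⊢
      exact h.closed.2 _ (pow_mem hs m) _ hT
    intro x
    obtain ⟨x, hx⟩ := x
    induction hx using closure_induction with
    | mem y hy => exact key y hy
    | one => exact map_one _
    | mul a b ha hb iha ihb =>
      rw [show (⟨a * b, mul_mem ha hb⟩ : X) = ⟨a, ha⟩ * ⟨b, hb⟩ from rfl, map_mul, iha, ihb, one_mul]
    | inv a ha iha => rw [show (⟨a⁻¹, inv_mem ha⟩ : X) = (⟨a, ha⟩ : X)⁻¹ from rfl, map_inv, iha, inv_one]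
  have hxc : ∀ g : X, (⟨c, hcX⟩ : X) * g = g * ⟨c, hcX⟩ := fun g => Subtype.ext (hcc g g.2 c hcC).eq.symm
  have hkey : ∀ (j : ℕ) (g₀ : X), g₀⁻¹ * (⟨c, hcX⟩ : X) ^ j * g₀ ∈ R' →
      g₀⁻¹ * (⟨c, hcX⟩ : X) ^ j * g₀ = (⟨c, hcX⟩ : X) ^ j := fun j g₀ _ => by
    rw [mul_assoc, ((show Commute (⟨c, hcX⟩ : X) g₀ from hxc g₀).pow_left j).eq, inv_mul_cancel_left]
  have hV := hgen ⟨c, hcX⟩
  rw [MonoidHom.transfer_eq_pow χ' _ hkey] at hV
  obtain ⟨j, hj⟩ := hodd
  have hpow : (⟨c, hcX⟩ : X) ^ R'.index = ⟨c, hcX⟩ := by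
    rw [hj, pow_succ, pow_mul, pow_two, show (⟨c, hcX⟩ : X) * ⟨c, hcX⟩ = 1 from Subtype.ext (invol_mul_self hn),
      one_pow, one_mul]
  refine hχc ?_
  rw [← hV]
  refine congrArg χ (Subtype.ext ?_)
  show c = (((⟨c, hcX⟩ : X) ^ R'.index : X) : G)
  rw [hpow]

end

end CfsgLib.SECrit.Closure
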